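/-
²E₆(q): the entrywise field automorphism on the twisted group, root elements of the classes.
-/
import Cfsg.Agent.Lib.Chev.TwistE6Group
import Cfsg.Agent.Lib.Chev.TwistPerfect
import Cfsg.Agent.Lib.Chev.TwistTorus
import Cfsg.Agent.Lib.Chev.FieldAutFixed
import Cfsg.Agent.Lib.Chev.GraphAut
import Cfsg.Agent.Lib.Chev.Invol.RootSpan

set_option autoImplicit false

namespace Cfsg.Agent.E6Sub

open Cfsg.Lie Cfsg.Agent.Chev Cfsg.Agent.Chev.Invol
open Cfsg.Agent.RootBN (Data)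
open Cfsg.Agent.Chev.BNSetup (tw2E6 tw2E6_axioms orbE6 orbE6_ok facts_chevE6 negTri_chevE6 graphE6_cols graphE6
  xg_eq_xe entryMap ne' xe GraphTab torusHom torusChar)
open scoped Matrix

theorem hn : chevE6.nroots = 72 := rfl

theorem hk : chevE6.rank = 6 := rfl

theorem hG : Good chevE6 := E6.good

variable {K : Type*} [Field K]

/-- The root element. -/
local notation "X" => xg chevE6 K

variable (φ : K ≃+* K)

theorem hT : (tw2E6 φ).Axioms := tw2E6_axioms φ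

theorem hax : (tw2E6 φ).data.Axioms := RootBN.Twist.data_axioms (hT φ)

theorem wl_apply (l : List (Fin 4)) (o : Fin 48) :
    (tw2E6 φ).data.wl l o = l.foldr (orbE6.reflF 48 4) o := by
  induction l with
  | nil => rfl
  | cons i l ih => rw [Data.wl_cons, Equiv.Perm.mul_apply, ih]; rfl

theorem simp_eq (j : Fin 4) : (tw2E6 φ).data.simp j = orbE6.simpF 48 4 j := rfl

/-- The field automorphism applied to the entries. -/
noncomputable def theta : GL chevE6.Idx K →* GL chevE6.Idx K := entryMap chevE6 (φ : K →+* K)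

/-- The elements fixed by it. -/
noncomputable def fixT : Subgroup (GL chevE6.Idx K) := (theta φ).eqLocus (MonoidHom.id _)

theorem mem_fixT {g : GL chevE6.Idx K} : g ∈ fixT φ ↔ theta φ g = g := Iff.rfl

@[simp] theorem theta_xg (r : ℕ) (t : K) : theta φ (X r t) = X r (φ t) := by
  rw [xg_eq_xe E6.good, xg_eq_xe E6.good]
  exact BNSetup.entryMap_xe E6.good _ r t

theorem theta_gen {S : List ℕ} {g : GL chevE6.Idx K} (hg : g ∈ gen chevE6 K S) :
    theta φ g ∈ gen chevE6 K S :=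
  (show gen chevE6 K S ≤ (gen chevE6 K S).comap (theta φ) from
    gen_le fun r hr t => by rw [Subgroup.mem_comap, theta_xg]; exact xg_mem_gen hr _) hg

theorem theta_ne (r : ℕ) : theta φ (ne' E6.good r (1 : K)) = ne' E6.good r (1 : K) := by
  simp only [ne', map_mul, theta]
  rw [BNSetup.entryMap_xe, BNSetup.entryMap_xe]
  simp

theorem theta_nn' (j : Fin 4) : theta φ ((tw2E6 φ).nn' j) = (tw2E6 φ).nn' j := by
  rw [show tw2E6 φ = BNSetup.twist E6.good orbE6_ok φ from rfl, BNSetup.nn'_eq, map_list_prod, List.map_map]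
  exact congrArg List.prod (List.map_congr_left fun k _ => theta_ne φ _)

/-- The fixed elements of the twisted group. -/
noncomputable def MF : Subgroup (GL chevE6.Idx K) := (tw2E6 φ).Gt ⊓ fixT φ

theorem nn_mem_MF (j : Fin 4) : (tw2E6 φ).nn' j ∈ MF φ := ⟨(hT φ).nn'_mem j, theta_nn' φ j⟩

theorem nw_mem_MF (l : List (Fin 4)) : (tw2E6 φ).data.nw l ∈ MF φ := by
  induction l with
  | nil => simp
  | cons i l ih => rw [Data.nw_cons]; exact Subgroup.mul_mem _ (nn_mem_MF φ i) ih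

theorem theta_sigma (g : GL chevE6.Idx K) : theta φ ((tw2E6 φ).σ g) = (tw2E6 φ).σ (theta φ g) := by
  show theta φ (GraphTab.aut orbE6_ok.1 φ g) = GraphTab.aut orbE6_ok.1 φ (theta φ g)
  rw [GraphTab.aut_apply, GraphTab.aut_apply, map_mul, map_mul, map_inv]
  have hU : theta φ (GraphTab.unit orbE6_ok.1 K) = GraphTab.unit orbE6_ok.1 K := by
    refine Units.ext (Matrix.ext fun i j => ?_)
    show φ (GraphTab.mat _ chevE6 K i j) = GraphTab.mat _ chevE6 K i j
    simp only [GraphTab.mat, Matrix.of_apply]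
    split_ifs <;> simp
  rw [hU]
  rfl

theorem theta_Xorb {o : Fin 48} {y : GL chevE6.Idx K} (hy : y ∈ (tw2E6 φ).Xorb o) :
    theta φ y ∈ (tw2E6 φ).Xorb o := by
  refine (show (tw2E6 φ).Xorb o ≤ ((tw2E6 φ).Xorb o).comap (theta φ) from iSup₂_le fun r hr z hz => ?_) hy
  obtain ⟨t, rfl⟩ := (E6.good : Good chevE6).mem_rootSubgroup_iff.1 hz
  rw [Subgroup.mem_comap, theta_xg]
  exact RootBN.Twist.X_le_Xorb (T := tw2E6 φ) hr ((E6.good : Good chevE6).xg_mem_rootSubgroup r.val _)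

theorem theta_X' {o : Fin 48} {y : GL chevE6.Idx K} (hy : y ∈ (tw2E6 φ).X' o) :
    theta φ y ∈ (tw2E6 φ).X' o :=
  ⟨theta_Xorb φ hy.1, RootBN.Twist.mem_Fix.2 (by rw [← theta_sigma, RootBN.Twist.mem_Fix.1 hy.2])⟩

theorem theta_Gt {y : GL chevE6.Idx K} (hy : y ∈ (tw2E6 φ).Gt) : theta φ y ∈ (tw2E6 φ).Gt :=
  (show (tw2E6 φ).Gt ≤ (tw2E6 φ).Gt.comap (theta φ) from
    iSup_le fun o _ hz => RootBN.Twist.X'_le_Gt o (theta_X' φ hz)) hy

/-- Root elements of two commuting roots. -/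
theorem xg_commute {r s : ℕ} (hr : r < 72) (hs : s < 72) (h : chevE6.commTerms r s = [])
    (h2 : s ≠ chevE6.neg r) (t u : K) : Commute (X r t) (X s u) := by
  rcases eq_or_ne s r with rfl | h1
  · exact show _ = _ by rw [(E6.good : Good chevE6).xg_add, (E6.good : Good chevE6).xg_add, add_comm]
  have e := (E6.good : Good chevE6).xg_comm (hn.symm ▸ hr) (hn.symm ▸ hs) h1 h2 t u
  rw [ChevalleyDatum.commWord, h, List.map_nil, wordG, List.map_nil, List.prod_nil, mul_one] at e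
  exact e.symm

theorem comm_word {r s k : ℕ} (hr : r < 72) (hs : s < 72) (h1 : s ≠ r) (h2 : s ≠ chevE6.neg r) {c : ℤ}
    (h3 : chevE6.commTerms r s = [(k, c, 1, 1)]) (t u : K) :
    X r t * X s u * (X r t)⁻¹ * (X s u)⁻¹ = X k ((c : K) * (t * u)) := by
  have hD : Good chevE6 := E6.good
  have e := hD.xg_commutator (hn.symm ▸ hr) (hn.symm ▸ hs) h1 h2 (-t) (-u)
  rw [hD.xg_inv, hD.xg_inv, _root_.neg_neg, _root_.neg_neg, ChevalleyDatum.commWord, h3] at e
  simp only [wordG, List.map_cons, List.map_nil, List.prod_cons, List.prod_nil, mul_one, pow_one,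
    mul_neg, neg_mul, _root_.neg_neg] at e
  rw [← inv_inj]
  simp only [mul_inv_rev, hD.xg_inv, _root_.neg_neg, ← mul_assoc]
  rw [e]

/-- The other root of the class of a root. -/
def rho (r : ℕ) : ℕ := graphE6.rho.getD r 0

theorem orbit_check : ∀ o : Fin 48, orbE6.repF 48 o < 72 ∧ rho (orbE6.repF 48 o) < 72 ∧
    chevE6.commTerms (orbE6.repF 48 o) (rho (orbE6.repF 48 o)) = [] ∧
    rho (orbE6.repF 48 o) ≠ chevE6.neg (orbE6.repF 48 o) := by decide +kernel

theorem orbit_roots : ∀ r < 72, r = orbE6.repF 48 (orbE6.orbF 48 r) ∨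
    r = rho (orbE6.repF 48 (orbE6.orbF 48 r)) := by decide +kernel

/-- An element of a class is a product of two root elements. -/
theorem exists_pair {o : Fin 48} {y : GL chevE6.Idx K} (hy : y ∈ (tw2E6 φ).Xorb o) :
    ∃ t u : K, y = X (orbE6.repF 48 o) t * X (rho (orbE6.repF 48 o)) u := by
  obtain ⟨h1, h2, h3, h4⟩ := orbit_check o
  have hc := xg_commute (K := K) h1 h2 h3 h4
  have hD : Good chevE6 := E6.good
  set a := orbE6.repF 48 o
  set b := rho a
  let S : Subgroup (GL chevE6.Idx K) :=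
    { carrier := {y | ∃ t u : K, y = X a t * X b u}
      one_mem' := ⟨0, 0, by rw [hD.xg_zero, hD.xg_zero, one_mul]⟩
      mul_mem' := by
        rintro _ _ ⟨t, u, rfl⟩ ⟨t', u', rfl⟩
        refine ⟨t + t', u + u', ?_⟩
        rw [mul_assoc (X a t), ← mul_assoc (X b u), (hc t' u).symm.eq, mul_assoc (X a t'), hD.xg_add,
          ← mul_assoc, hD.xg_add]
      inv_mem' := by
        rintro _ ⟨t, u, rfl⟩
        refine ⟨-t, -u, ?_⟩
        rw [mul_inv_rev, hD.xg_inv, hD.xg_inv, (hc (-t) (-u)).eq] }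
  refine (show (tw2E6 φ).Xorb o ≤ S from iSup₂_le fun r hr z hz => ?_) hy
  obtain ⟨t, rfl⟩ := hD.mem_rootSubgroup_iff.1 hz
  have hr' : orbE6.orbF 48 r.val = o := hr
  rcases orbit_roots r.val (hn ▸ r.2) with h | h <;> rw [hr'] at h
  · exact ⟨t, 0, by rw [h, hD.xg_zero, mul_one]⟩
  · exact ⟨0, t, by rw [h, hD.xg_zero, one_mul]⟩

theorem Xorb_le_gen {o : Fin 48} {S : List ℕ} (h1 : orbE6.repF 48 o ∈ S) (h2 : rho (orbE6.repF 48 o) ∈ S)
    {y : GL chevE6.Idx K} (hy : y ∈ (tw2E6 φ).Xorb o) : y ∈ gen chevE6 K S := by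
  obtain ⟨t, u, rfl⟩ := exists_pair φ hy
  exact Subgroup.mul_mem _ (xg_mem_gen h1 t) (xg_mem_gen h2 u)

theorem simple_facts : orbE6.Jl 4 0 = [1] ∧ orbE6.Jl 4 1 = [3] ∧ orbE6.Jl 4 2 = [2, 4] ∧ orbE6.Jl 4 3 = [0, 5] ∧
    chevE6.simple 0 = 56 ∧ chevE6.simple 1 = 46 ∧ chevE6.simple 2 = 42 ∧ chevE6.simple 3 = 39 ∧
    chevE6.simple 4 = 37 ∧ chevE6.simple 5 = 36 := by decide +kernel

/-- An element of a short simple class. -/
noncomputable def eS (j : Fin 4) (t : K) : GL chevE6.Idx K :=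
  if j = 2 then X 42 t * X 37 (φ t) else X 56 t * X 36 (φ t)

/-- The first root of a short simple class. -/
def fstRoot (j : Fin 4) : ℕ := if j = 2 then 42 else 56

/-- The second root of a short simple class. -/
def sndRoot (j : Fin 4) : ℕ := if j = 2 then 37 else 36

theorem eS_eq (j : Fin 4) (t : K) : eS φ j t = X (fstRoot j) t * X (sndRoot j) (φ t) := by
  rw [eS, fstRoot, sndRoot]; split_ifs <;> rfl

theorem eS_mem (hinv : ∀ x, φ (φ x) = x) {j : Fin 4} (hj : j = 2 ∨ j = 3) (t : K) :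
    eS φ j t ∈ (tw2E6 φ).X' (orbE6.simpF 48 4 j) := by
  obtain ⟨-, -, h2, h3, s0, -, s2, -, s4, s5⟩ := simple_facts
  rcases hj with rfl | rfl
  · refine (BNSetup.mem_X'_simp_iff E6.good orbE6_ok φ facts_chevE6 negTri_chevE6 graphE6_cols 2).2
      ⟨fun k => if k = 2 then t else φ t, ?_, ?_⟩
    · intro k hk
      rw [h2] at hk
      simp only [List.mem_cons, List.not_mem_nil, or_false] at hk
      rcases hk with rfl | rfl
      · rfl
      · exact (hinv t).symm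
    · simp [BNSetup.pv, h2, eS, ← xg_eq_xe E6.good, s2, s4]
  · refine (BNSetup.mem_X'_simp_iff E6.good orbE6_ok φ facts_chevE6 negTri_chevE6 graphE6_cols 3).2
      ⟨fun k => if k = 0 then t else φ t, ?_, ?_⟩
    · intro k hk
      rw [h3] at hk
      simp only [List.mem_cons, List.not_mem_nil, or_false] at hk
      rcases hk with rfl | rfl
      · rfl
      · exact (hinv t).symm
    · simp [BNSetup.pv, h3, eS, ← xg_eq_xe E6.good, s0, s5]

theorem exists_eS {j : Fin 4} (hj : j = 2 ∨ j = 3) {y : GL chevE6.Idx K}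
    (hy : y ∈ (tw2E6 φ).X' (orbE6.simpF 48 4 j)) : ∃ t, y = eS φ j t := by
  obtain ⟨a, ha, rfl⟩ :=
    (BNSetup.mem_X'_simp_iff E6.good orbE6_ok φ facts_chevE6 negTri_chevE6 graphE6_cols j).1 hy
  obtain ⟨-, -, h2, h3, s0, -, s2, -, s4, s5⟩ := simple_facts
  rcases hj with rfl | rfl
  · have e : a 4 = φ (a 2) := ha 2 (by decide)
    exact ⟨a 2, by simp [BNSetup.pv, h2, eS, ← xg_eq_xe E6.good, s2, s4, e]⟩
  · have e : a 5 = φ (a 0) := ha 0 (by decide)
    exact ⟨a 0, by simp [BNSetup.pv, h3, eS, ← xg_eq_xe E6.good, s0, s5, e]⟩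

/-- The root of a long simple class. -/
def longRoot (j : Fin 4) : ℕ := if j = 0 then 46 else 39

theorem exists_long {j : Fin 4} (hj : j = 0 ∨ j = 1) {y : GL chevE6.Idx K}
    (hy : y ∈ (tw2E6 φ).X' (orbE6.simpF 48 4 j)) : ∃ s, φ s = s ∧ y = X (longRoot j) s := by
  obtain ⟨a, ha, rfl⟩ :=
    (BNSetup.mem_X'_simp_iff E6.good orbE6_ok φ facts_chevE6 negTri_chevE6 graphE6_cols j).1 hy
  obtain ⟨h0, h1, -, -, -, s1, -, s3, -, -⟩ := simple_facts
  rcases hj with rfl | rfl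
  · exact ⟨a 1, (ha 1 (by decide)).symm, by simp [BNSetup.pv, h0, longRoot, ← xg_eq_xe E6.good, s1]⟩
  · exact ⟨a 3, (ha 3 (by decide)).symm, by simp [BNSetup.pv, h1, longRoot, ← xg_eq_xe E6.good, s3]⟩

theorem long_mem {j : Fin 4} (hj : j = 0 ∨ j = 1) {s : K} (hs : φ s = s) :
    X (longRoot j) s ∈ (tw2E6 φ).X' (orbE6.simpF 48 4 j) := by
  refine (BNSetup.mem_X'_simp_iff E6.good orbE6_ok φ facts_chevE6 negTri_chevE6 graphE6_cols j).2
    ⟨fun _ => s, fun _ _ => hs.symm, ?_⟩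
  obtain ⟨h0, h1, -, -, -, s1, -, s3, -, -⟩ := simple_facts
  rcases hj with rfl | rfl
  · simp [BNSetup.pv, h0, longRoot, ← xg_eq_xe E6.good, s1]
  · simp [BNSetup.pv, h1, longRoot, ← xg_eq_xe E6.good, s3]

theorem conj_nw (l : List (Fin 4)) {o o' : Fin 48} (e : l.foldr (orbE6.reflF 48 4) o = o') {y : GL chevE6.Idx K}
    (hy : y ∈ (tw2E6 φ).X' o) :
    (tw2E6 φ).data.nw l * y * ((tw2E6 φ).data.nw l)⁻¹ ∈ (tw2E6 φ).X' o' := by
  have h1 := (Data.acts_nw (hax φ) l o y).2 hy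
  rwa [wl_apply, e] at h1

theorem conj_nw_inv (l : List (Fin 4)) {o o' : Fin 48} (e : l.foldr (orbE6.reflF 48 4) o = o') {y : GL chevE6.Idx K}
    (hy : y ∈ (tw2E6 φ).X' o') :
    ((tw2E6 φ).data.nw l)⁻¹ * y * (tw2E6 φ).data.nw l ∈ (tw2E6 φ).X' o := by
  refine (Data.acts_nw (hax φ) l o (((tw2E6 φ).data.nw l)⁻¹ * y * (tw2E6 φ).data.nw l)).1 ?_
  rw [wl_apply, e, show (tw2E6 φ).data.nw l * (((tw2E6 φ).data.nw l)⁻¹ * y * (tw2E6 φ).data.nw l) *
    ((tw2E6 φ).data.nw l)⁻¹ = y by group]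
  exact hy

theorem long_reach : ∀ o : Fin 48, rho (orbE6.repF 48 o) = orbE6.repF 48 o →
    ((orbE6.reachF 48 4 o).2 = 0 ∨ (orbE6.reachF 48 4 o).2 = 1) ∧
      (orbE6.reachF 48 4 o).1.foldr (orbE6.reflF 48 4) (orbE6.simpF 48 4 (orbE6.reachF 48 4 o).2) = o := by
  decide +kernel

/-- The long classes are fixed. -/
theorem long_fix {o : Fin 48} (ho : rho (orbE6.repF 48 o) = orbE6.repF 48 o) {y : GL chevE6.Idx K}
    (hy : y ∈ (tw2E6 φ).X' o) : y ∈ MF φ := by
  obtain ⟨hj, e⟩ := long_reach o ho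
  set l := (orbE6.reachF 48 4 o).1
  obtain ⟨s, hs, h⟩ := exists_long φ hj (conj_nw_inv φ l e hy)
  have hz : ((tw2E6 φ).data.nw l)⁻¹ * y * (tw2E6 φ).data.nw l ∈ MF φ := by
    refine ⟨RootBN.Twist.X'_le_Gt _ (conj_nw_inv φ l e hy), ?_⟩
    show theta φ _ = _
    rw [h, theta_xg, hs]; rfl
  have := Subgroup.mul_mem _ (Subgroup.mul_mem _ (nw_mem_MF φ l) hz) (Subgroup.inv_mem _ (nw_mem_MF φ l))
  simpa [mul_assoc] using this

end Cfsg.Agent.E6Sub
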