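/-
E₆: congruence of unipotent elements modulo the subgroup of an upward closed list of positive roots.
-/
import Cfsg.Agent.Lib.Chev.E6Subfield.Basic
import Cfsg.Agent.Lib.Chev.Invol.Kill

set_option autoImplicit false

namespace Cfsg.Agent.E6Sub

open Cfsg.Lie Cfsg.Agent.Chev Cfsg.Agent.Chev.Invol
open Cfsg.Agent.Chev.BNSetup (facts_chevE6)

variable {K : Type*} [Field K]

/-- The root element. -/
local notation "X" => xg chevE6 K

/-- The positive roots. -/
def posR : List ℕ := List.range' 36 36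

/-- The commutators of two roots lie in a list. -/
abbrev Into (r s : ℕ) (S : List ℕ) : Prop := ∀ x ∈ E6.cert.comm r s, x.1 ∈ S

/-- An upward closed list of positive roots. -/
abbrev NormOK (S : List ℕ) : Prop :=
  (∀ s ∈ S, s < 72 ∧ 36 ≤ s) ∧ ∀ r ∈ posR, ∀ s ∈ S, Into r s S

theorem mem_posR {r : ℕ} : r ∈ posR ↔ 36 ≤ r ∧ r < 72 := by simp [posR]

theorem ng_ne {r s : ℕ} (hr : r ∈ posR) (hs : s ∈ posR) : s ≠ E6.cert.ng r := by
  rw [mem_posR] at hr hs
  exact ng_ne_pos E6.valid facts_chevE6 (hn.symm ▸ hr.2) (by rw [hn]; omega) (by rw [hn]; omega)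

theorem normOK_nil : NormOK [] := ⟨by simp, by simp⟩

/-- Congruence modulo `gen S`. -/
def Cg (S : List ℕ) (a b : GL chevE6.Idx K) : Prop := a * b⁻¹ ∈ gen chevE6 K S

variable {S : List ℕ}

theorem Cg.refl (a : GL chevE6.Idx K) : Cg S a a := by simp [Cg]

theorem Cg.symm {a b : GL chevE6.Idx K} (h : Cg S a b) : Cg S b a := by
  simpa [Cg] using Subgroup.inv_mem _ h

theorem Cg.trans {a b c : GL chevE6.Idx K} (h : Cg S a b) (h' : Cg S b c) : Cg S a c := by
  simpa [Cg, mul_assoc] using Subgroup.mul_mem _ h h'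

theorem Cg.mono {T : List ℕ} (hST : ∀ r ∈ S, r ∈ T) {a b : GL chevE6.Idx K} (h : Cg S a b) : Cg T a b :=
  gen_mono hST h

theorem Cg.of_mem {w : GL chevE6.Idx K} (h : w ∈ gen chevE6 K S) : Cg S w 1 := by simpa [Cg] using h

theorem Cg.mem {w : GL chevE6.Idx K} (h : Cg S w 1) : w ∈ gen chevE6 K S := by simpa [Cg] using h

theorem Cg.theta (φ : K ≃+* K) {a b : GL chevE6.Idx K} (h : Cg S a b) : Cg S (theta φ a) (theta φ b) := by
  have := theta_gen φ h
  rwa [map_mul, map_inv] at this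

variable (hS : NormOK S)
include hS

theorem U_normalises {a : GL chevE6.Idx K} (ha : a ∈ gen chevE6 K posR) :
    Normalises a (gen chevE6 K S) := by
  suffices key : Normalises a (gen chevE6 K S) ∧ Normalises a⁻¹ (gen chevE6 K S) from key.1
  induction ha using Subgroup.closure_induction with
  | mem x hx =>
    obtain ⟨r, hr, t, rfl⟩ := hx
    have hr' := mem_posR.1 hr
    have hN : ∀ a : K, Normalises (X r a) (gen chevE6 K S) := fun a =>
      normalises_xg E6.valid (hn.symm ▸ hr'.2) (fun s hs => ⟨hn.symm ▸ (hS.1 s hs).1,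
        ng_ne hr (mem_posR.2 ⟨(hS.1 s hs).2, (hS.1 s hs).1⟩), hS.2 r hr s hs⟩) a
    exact ⟨hN t, (E6.good : Good chevE6).xg_inv r t ▸ hN (-t)⟩
  | one => exact ⟨fun y hy => by simpa using hy, fun y hy => by simpa using hy⟩
  | mul x y _ _ ihx ihy => exact ⟨ihx.1.mul ihy.1, by rw [mul_inv_rev]; exact ihy.2.mul ihx.2⟩
  | inv x _ ih => exact ⟨ih.2, by rw [inv_inv]; exact ih.1⟩

theorem Cg.mul_left {a b c : GL chevE6.Idx K} (hc : c ∈ gen chevE6 K posR) (h : Cg S a b) :
    Cg S (c * a) (c * b) := by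
  have := U_normalises hS hc _ h
  simpa [Cg, mul_assoc] using this

omit hS in
theorem Cg.mul_right {a b c : GL chevE6.Idx K} (h : Cg S a b) : Cg S (a * c) (b * c) := by
  simpa [Cg, mul_assoc] using h

theorem Cg.mul {a b c d : GL chevE6.Idx K} (ha : a ∈ gen chevE6 K posR) (h : Cg S a b) (h' : Cg S c d) :
    Cg S (a * c) (b * d) :=
  (h'.mul_left hS ha).trans h.mul_right

theorem Cg.conj {a b c : GL chevE6.Idx K} (hc : c ∈ gen chevE6 K posR) (h : Cg S a b) :
    Cg S (c * a * c⁻¹) (c * b * c⁻¹) :=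
  (h.mul_left hS hc).mul_right

theorem conj_root {r s : ℕ} (hr : r ∈ posR) (hs : s ∈ posR) (h : Into r s S) (t u : K) :
    Cg S (X r t * X s u * (X r t)⁻¹) (X s u) := by
  obtain ⟨w, hw, e⟩ := exists_conj_eq E6.valid (F := K) (a := r) (s := s) (hn.symm ▸ (mem_posR.1 hr).2)
    (hn.symm ▸ (mem_posR.1 hs).2) (ng_ne hr hs) (K := gen chevE6 K S) (fun x hx v => xg_mem_gen (h x hx) v) t u
  rw [Cg, e]
  exact U_normalises hS (xg_mem_gen hs u) _ hw

/-- Conjugation by elements of roots whose commutators with a root lie in the list. -/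
theorem conj_gen {L : List ℕ} (hL : ∀ r ∈ L, r ∈ posR) {s : ℕ} (hs : s ∈ posR) (h : ∀ r ∈ L, Into r s S)
    (u : K) {v : GL chevE6.Idx K} (hv : v ∈ gen chevE6 K L) : Cg S (v * X s u * v⁻¹) (X s u) := by
  suffices key : Cg S (v * X s u * v⁻¹) (X s u) ∧ Cg S (v⁻¹ * X s u * v⁻¹⁻¹) (X s u) from key.1
  induction hv using Subgroup.closure_induction with
  | mem x hx =>
    obtain ⟨r, hr, t, rfl⟩ := hx
    exact ⟨conj_root hS (hL r hr) hs (h r hr) t u,
      by rw [(E6.good : Good chevE6).xg_inv]; exact conj_root hS (hL r hr) hs (h r hr) (-t) u⟩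
  | one => exact ⟨by simpa using Cg.refl _, by simpa using Cg.refl _⟩
  | mul x y hx hy ihx ihy =>
    have hxU : x ∈ gen chevE6 K posR := gen_mono hL hx
    have hyU : y ∈ gen chevE6 K posR := gen_mono hL hy
    constructor
    · have := (ihy.1.conj hS hxU).trans ihx.1
      simpa [mul_assoc] using this
    · have := (ihx.2.conj hS (Subgroup.inv_mem _ hyU)).trans ihy.2
      simpa [mul_assoc] using this
  | inv x _ ih => exact ⟨ih.2, by rw [inv_inv]; exact ih.1⟩

theorem sep_one {r : ℕ} (hr : r ∈ posR) (hrS : r ∉ S) {t : K} (h : X r t ∈ gen chevE6 K S) : t = 0 :=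
  eq_zero_of_mem_gen E6.valid facts_chevE6 (fun s hs => ⟨hn.symm ▸ (hS.1 s hs).1, by rw [hn]; exact (hS.1 s hs).2⟩)
    (fun r' hr' s hs x hx => hS.2 r' (mem_posR.2 ⟨(hS.1 r' hr').2, (hS.1 r' hr').1⟩) s hs x hx)
    (hn.symm ▸ (mem_posR.1 hr).2) (by rw [hn]; exact (mem_posR.1 hr).1) hrS h

omit hS in
theorem sep_two {s g : ℕ} (hg : g ∈ posR) (hgS : g ∉ s :: S) (hS' : NormOK (s :: S)) (hsS : s ∉ S)
    (hS : NormOK S) {δ ε : K} (h : X s δ * X g ε ∈ gen chevE6 K S) : δ = 0 ∧ ε = 0 := by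
  have he : ε = 0 := by
    refine sep_one hS' hg hgS ?_
    exact (Subgroup.mul_mem_cancel_left _ (xg_mem_gen List.mem_cons_self δ)).1
      (gen_mono (fun x hx => List.mem_cons_of_mem _ hx) h)
  subst he
  rw [(E6.good : Good chevE6).xg_zero, mul_one] at h
  exact ⟨sep_one hS (mem_posR.2 ⟨(hS'.1 s List.mem_cons_self).2, (hS'.1 s List.mem_cons_self).1⟩) hsS h, rfl⟩

omit hS in
/-- The parameters of a fixed conjugate are fixed. -/
theorem fixed_param (φ : K ≃+* K) {S : List ℕ} (hS : NormOK S) {a b g s : ℕ} (hS' : NormOK (s :: S))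
    (ha : a ∈ posR) (hb : b ∈ posR) (hg : g ∈ posR) (hgS : g ∉ s :: S) (hsS : s ∉ S)
    (hga : g ≠ a) {k : ℤ} (hk : k = 1 ∨ k = -1) (hcomm : chevE6.commTerms a g = [(s, k, 1, 1)])
    (hbg : Into b g S) (hgs : Into g s S) {L : List ℕ} (hL : ∀ r ∈ L, r ∈ posR) (hLg : ∀ r ∈ L, Into r g S)
    {v q R : GL chevE6.Idx K} (hv : v ∈ gen chevE6 K L) (hq : q ∈ gen chevE6 K S) {t e : K} (he : e ≠ 0)
    (hR : R = X a t * X b (φ t) * v * (X g e * q) * (X a t * X b (φ t) * v)⁻¹)
    (hfix : theta φ R = R) : φ t = t := by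
  have hD : Good chevE6 := E6.good
  have hs : s ∈ posR := mem_posR.2 ⟨(hS'.1 s List.mem_cons_self).2, (hS'.1 s List.mem_cons_self).1⟩
  have hA : ∀ c : K, X a c ∈ gen chevE6 K posR := fun c => xg_mem_gen ha c
  have hB : ∀ c : K, X b c ∈ gen chevE6 K posR := fun c => xg_mem_gen hb c
  have key : ∀ (t t' e : K) (v q : GL chevE6.Idx K), v ∈ gen chevE6 K L → q ∈ gen chevE6 K S →
      Cg S (X a t * X b t' * v * (X g e * q) * (X a t * X b t' * v)⁻¹) (X s ((k : K) * (t * e)) * X g e) := by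
    intro t t' e v q hv hq
    have hyv : X a t * X b t' * v ∈ gen chevE6 K posR :=
      Subgroup.mul_mem _ (Subgroup.mul_mem _ (hA t) (hB t')) (gen_mono hL hv)
    have c1 : Cg S (X g e * q) (X g e) := by
      have := (Cg.of_mem hq).mul_left hS (xg_mem_gen hg e)
      rwa [mul_one] at this
    refine (c1.conj hS hyv).trans ?_
    rw [show X a t * X b t' * v * X g e * (X a t * X b t' * v)⁻¹ =
      X a t * (X b t' * (v * X g e * v⁻¹) * (X b t')⁻¹) * (X a t)⁻¹ by group]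
    refine (((conj_gen hS hL hg hLg e hv).conj hS (hB t')).conj hS (hA t)).trans ?_
    refine ((conj_root hS hb hg hbg t' e).conj hS (hA t)).trans ?_
    have hw := comm_word (K := K) (mem_posR.1 ha).2 (mem_posR.1 hg).2 hga
      (fun e' => ng_ne ha hg (by rw [e', E6.valid.ng_eq (hn.symm ▸ (mem_posR.1 ha).2)])) hcomm t e
    rw [show X a t * X g e * (X a t)⁻¹ = X a t * X g e * (X a t)⁻¹ * (X g e)⁻¹ * X g e by group, hw]
    exact Cg.refl _
  have h1 := key t (φ t) e v q hv hq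
  have h2 := key (φ t) (φ (φ t)) (φ e) (theta φ v) (theta φ q) (theta_gen φ hv) (theta_gen φ hq)
  have hθ : theta φ R = X a (φ t) * X b (φ (φ t)) * theta φ v * (X g (φ e) * theta φ q) *
      (X a (φ t) * X b (φ (φ t)) * theta φ v)⁻¹ := by
    rw [hR]; simp [map_mul]
  rw [← hθ, hfix, hR] at h2
  have h3 := h1.symm.trans h2
  set d₁ := (k : K) * (t * e)
  set d₂ := (k : K) * (φ t * φ e)
  have h4 : Cg S (X g (e + -φ e)) (X s (-d₁ + d₂)) := by
    have h5 := (h3.mul_left hS (xg_mem_gen hs (-d₁))).mul_right (c := (X g (φ e))⁻¹)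
    rw [← hD.xg_inv, inv_mul_cancel_left] at h5
    simpa only [mul_assoc, mul_inv_cancel, mul_one, hD.xg_inv, hD.xg_add, add_neg_cancel, hD.xg_zero] using h5
  obtain ⟨z1, z2⟩ := sep_two (δ := -(-d₁ + d₂)) (ε := e + -φ e) hg hgS hS' hsS hS (by
    have := h4.mul_left hS (xg_mem_gen hs (-(-d₁ + d₂)))
    have h6 : Cg S (X s (-(-d₁ + d₂)) * X g (e + -φ e)) 1 := by
      refine this.trans ?_
      rw [hD.xg_add, neg_add_cancel, hD.xg_zero]
      exact Cg.refl _
    exact h6.mem)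
  have hφe : φ e = e := (add_neg_eq_zero.1 z2).symm
  have hk0 : (k : K) ≠ 0 := by rcases hk with rfl | rfl <;> simp
  have h7 : (k : K) * ((φ t - t) * e) = 0 := by
    simp only [d₁, d₂, hφe] at z1
    linear_combination -z1
  simpa [hk0, he, sub_eq_zero] using h7

end Cfsg.Agent.E6Sub
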