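/-
²E₆(q): the fixed elements and one more element of a short class generate the whole group.
-/
import Cfsg.Agent.Lib.Chev.E6Subfield.Basic

set_option autoImplicit false

namespace Cfsg.Agent.E6Sub

open Cfsg.Lie Cfsg.Agent.Chev Cfsg.Agent.Chev.Invol
open Cfsg.Agent.RootBN (Data)
open Cfsg.Agent.Chev.BNSetup (tw2E6 orbE6 orbE6_ok facts_chevE6 negTri_chevE6 graphE6_cols xg_eq_xe xe he ne')

variable {K : Type*} [Field K]

/-- The root element. -/
local notation "X" => xg chevE6 K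

/-- The standing hypotheses. -/
structure Hyp [Fintype K] (φ : K ≃+* K) (q : ℕ) : Prop where
  inv : ∀ x, φ (φ x) = x
  fixed : Nat.card {x : K // φ x = x} = q
  card : Fintype.card K = q ^ 2
  two_le : 2 ≤ q

variable [Fintype K] {φ : K ≃+* K} {q : ℕ} (h : Hyp φ q)
include h

theorem exists_nonfixed : ∃ t : K, φ t ≠ t := by
  by_contra hall
  push Not at hall
  have h1 : q = q ^ 2 := by
    rw [← h.card, ← h.fixed, ← Nat.card_eq_fintype_card]
    exact Nat.card_congr (Equiv.subtypeUnivEquiv hall)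
  have h2 : q * 1 < q * q := Nat.mul_lt_mul_of_pos_left (lt_of_lt_of_le one_lt_two h.two_le)
    (lt_of_lt_of_le two_pos h.two_le)
  rw [mul_one, ← sq] at h2
  omega

/-- Every scalar is a combination of one and a scalar that is not fixed. -/
theorem exists_comb {t : K} (ht : φ t ≠ t) (u : K) : ∃ a b : K, φ a = a ∧ φ b = b ∧ u = a + b * t := by
  classical
  let f : {x : K // φ x = x} × {x : K // φ x = x} → K := fun p => p.1.1 + p.2.1 * t
  have hinj : Function.Injective f := by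
    rintro ⟨⟨a, ha⟩, b, hb⟩ ⟨⟨a', ha'⟩, b', hb'⟩ e
    have e1 : a + b * t = a' + b' * t := e
    have e2 : a + b * φ t = a' + b' * φ t := by
      have := congrArg φ e1
      simpa [map_add, map_mul, ha, hb, ha', hb'] using this
    have e3 : (b - b') * (φ t - t) = 0 := by linear_combination e2 - e1
    have eb : b = b' := sub_eq_zero.1 ((mul_eq_zero.1 e3).resolve_right (sub_ne_zero.2 ht))
    subst eb
    have ea : a = a' := add_right_cancel e1
    subst ea
    rfl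
  have hsurj : Function.Surjective f := (hinj.bijective_of_nat_card_le (by
    rw [Nat.card_prod, h.fixed, Nat.card_eq_fintype_card, h.card, sq])).2
  obtain ⟨⟨⟨a, ha⟩, b, hb⟩, e⟩ := hsurj u
  exact ⟨a, b, ha, hb, e.symm⟩

omit h [Fintype K] in
theorem eS_add {j : Fin 4} (hj : j = 2 ∨ j = 3) (t u : K) : eS φ j t * eS φ j u = eS φ j (t + u) := by
  have hc : ∀ j : Fin 4, chevE6.commTerms (fstRoot j) (sndRoot j) = [] ∧ fstRoot j < 72 ∧ sndRoot j < 72 ∧
      sndRoot j ≠ chevE6.neg (fstRoot j) := by decide +kernel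
  obtain ⟨h1, h2, h3, h4⟩ := hc j
  have hcm := xg_commute (K := K) h2 h3 h1 h4
  have hD : Good chevE6 := E6.good
  rw [eS_eq, eS_eq, eS_eq, mul_assoc (X (fstRoot j) t), ← mul_assoc (X (sndRoot j) (φ t)), (hcm u (φ t)).symm.eq,
    mul_assoc (X (fstRoot j) u), hD.xg_add, ← mul_assoc, hD.xg_add, map_add]

omit h [Fintype K] in
theorem eS_fix {j : Fin 4} {t : K} (ht : φ t = t) : eS φ j t ∈ fixT φ := by
  rw [mem_fixT, eS_eq, map_mul, theta_xg, theta_xg, ht, ht]

omit h [Fintype K] in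
theorem torus_mem {l : K} (hl : l ≠ 0) (hlf : φ l = l) : he E6.good (chevE6.simple 3) l ∈ MF φ := by
  have hne : ∀ a : K, φ a = a → ne' E6.good (chevE6.simple 3) a ∈ MF φ := by
    intro a ha
    have h1 := BNSetup.pv_mem_Gt E6.good orbE6_ok φ facts_chevE6 negTri_chevE6 graphE6_cols 1
      (a := fun _ => a) (fun _ _ => ha.symm)
    have h2 := BNSetup.pv_mem_Gt E6.good orbE6_ok φ facts_chevE6 negTri_chevE6 graphE6_cols 1
      (a := fun _ => -a⁻¹) (fun _ _ => by rw [map_neg, map_inv₀, ha])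
    simp only [BNSetup.pv, simple_facts.2.1, List.map_cons, List.map_nil, List.prod_cons, List.prod_nil,
      mul_one] at h1 h2
    refine ⟨Subgroup.mul_mem _ (Subgroup.mul_mem _ h1.1 h2.2) h1.1, ?_⟩
    show theta φ _ = _
    simp only [ne', map_mul, theta]
    rw [BNSetup.entryMap_xe, BNSetup.entryMap_xe]
    simp [ha]
  exact Subgroup.mul_mem _ (hne l hlf) (hne (-1) (by simp))

variable {H : Subgroup (GL chevE6.Idx K)} (hM : MF φ ≤ H) (hH : H ≤ (tw2E6 φ).Gt)
include hM hH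

omit hH in
theorem eS_all {t : K} (ht : φ t ≠ t) (htH : eS φ 2 t ∈ H) (u : K) : eS φ 2 u ∈ H := by
  obtain ⟨a, b, ha, hb, rfl⟩ := exists_comb h ht u
  rw [← eS_add (Or.inl rfl)]
  refine H.mul_mem (hM ⟨RootBN.Twist.X'_le_Gt _ (eS_mem φ h.inv (Or.inl rfl) a), eS_fix ha⟩) ?_
  rcases eq_or_ne b 0 with rfl | hb0
  · rw [zero_mul]
    exact hM ⟨RootBN.Twist.X'_le_Gt _ (eS_mem φ h.inv (Or.inl rfl) 0), eS_fix (map_zero φ)⟩
  have hT := torus_mem (φ := φ) (inv_ne_zero hb0) (by rw [map_inv₀, hb])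
  have hc : chevE6.cartan 3 42 = -1 ∧ chevE6.cartan 3 37 = -1 := by decide +kernel
  set g := he E6.good (chevE6.simple 3) b⁻¹
  have e : g * eS φ 2 t * g⁻¹ = eS φ 2 (b * t) := by
    have c1 := BNSetup.he_conj_xe (E6.good : Good chevE6) (F := K) (i := 3) (by decide) (s := 42) (by decide)
      (inv_ne_zero hb0) t
    have c2 := BNSetup.he_conj_xe (E6.good : Good chevE6) (F := K) (i := 3) (by decide) (s := 37) (by decide)
      (inv_ne_zero hb0) (φ t)
    rw [hc.1, ← xg_eq_xe E6.good, ← xg_eq_xe E6.good] at c1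
    rw [hc.2, ← xg_eq_xe E6.good, ← xg_eq_xe E6.good] at c2
    simp only [zpow_neg, zpow_one, inv_inv] at c1 c2
    have f1 : g * X 42 t * g⁻¹ = X 42 (b * t) := by rw [c1, mul_inv_cancel_right]
    have f2 : g * X 37 (φ t) * g⁻¹ = X 37 (b * φ t) := by rw [c2, mul_inv_cancel_right]
    simp only [eS, if_true, map_mul, hb]
    rw [← f1, ← f2]
    group
  rw [← e]
  exact H.mul_mem (H.mul_mem (hM hT) htH) (H.inv_mem (hM hT))

omit h [Fintype K] hM hH in
theorem short_reach : ∀ o : Fin 48, rho (orbE6.repF 48 o) = orbE6.repF 48 o ∨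
    ((orbE6.reachF 48 4 o).1.foldr (orbE6.reflF 48 4) (orbE6.simpF 48 4 2) = o ∨
      ((orbE6.reachF 48 4 o).1 ++ [2, 3]).foldr (orbE6.reflF 48 4) (orbE6.simpF 48 4 2) = o) := by
  decide +kernel

omit h [Fintype K] hM hH in
theorem exists_word2 {o : Fin 48} (ho : rho (orbE6.repF 48 o) ≠ orbE6.repF 48 o) :
    ∃ l : List (Fin 4), l.foldr (orbE6.reflF 48 4) (orbE6.simpF 48 4 2) = o := by
  rcases short_reach o with e | e | e
  · exact absurd e ho
  · exact ⟨_, e⟩
  · exact ⟨_, e⟩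

/-- One more element of a short class gives everything. -/
theorem eq_Gt_of_eS {t : K} (ht : φ t ≠ t) (htH : eS φ 2 t ∈ H) : H = (tw2E6 φ).Gt := by
  refine le_antisymm hH (iSup_le fun o y hy => ?_)
  by_cases ho : rho (orbE6.repF 48 o) = orbE6.repF 48 o
  · exact hM (long_fix φ ho hy)
  obtain ⟨l, e⟩ := exists_word2 ho
  obtain ⟨u, hu⟩ := exists_eS φ (Or.inl rfl) (conj_nw_inv φ l e hy)
  have := H.mul_mem (H.mul_mem (hM (nw_mem_MF φ l)) (hu ▸ eS_all h hM ht htH u :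
    ((tw2E6 φ).data.nw l)⁻¹ * y * (tw2E6 φ).data.nw l ∈ H)) (H.inv_mem (hM (nw_mem_MF φ l)))
  simpa [mul_assoc] using this

/-- In a proper subgroup the elements of the classes are fixed. -/
theorem class_fixed (hne : H ≠ (tw2E6 φ).Gt) {o : Fin 48} {y : GL chevE6.Idx K} (hy : y ∈ (tw2E6 φ).X' o)
    (hyH : y ∈ H) : y ∈ MF φ := by
  by_cases ho : rho (orbE6.repF 48 o) = orbE6.repF 48 o
  · exact long_fix φ ho hy
  obtain ⟨l, e⟩ := exists_word2 ho
  obtain ⟨u, hu⟩ := exists_eS φ (Or.inl rfl) (conj_nw_inv φ l e hy)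
  have hn := hM (nw_mem_MF φ l)
  have hzH : eS φ 2 u ∈ H := hu ▸ H.mul_mem (H.mul_mem (H.inv_mem hn) hyH) hn
  have hfix : φ u = u := by
    by_contra hu'
    exact hne (eq_Gt_of_eS h hM hH hu' hzH)
  have hz : ((tw2E6 φ).data.nw l)⁻¹ * y * (tw2E6 φ).data.nw l ∈ MF φ :=
    ⟨RootBN.Twist.X'_le_Gt _ (conj_nw_inv φ l e hy), hu ▸ eS_fix hfix⟩
  have := Subgroup.mul_mem _ (Subgroup.mul_mem _ (nw_mem_MF φ l) hz) (Subgroup.inv_mem _ (nw_mem_MF φ l))
  simpa [mul_assoc] using this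

end Cfsg.Agent.E6Sub
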