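/-
²E₆(q): a proper subgroup containing the fixed elements has only fixed elements in the unipotent subgroup.
-/
import Cfsg.Agent.Lib.Chev.E6Subfield.Cong
import Cfsg.Agent.Lib.Chev.E6Subfield.ShortGen
import Cfsg.Agent.Lib.Chev.Sylow

set_option autoImplicit false

namespace Cfsg.Agent.E6Sub

open Cfsg.Lie Cfsg.Agent.Chev Cfsg.Agent.Chev.Invol
open Cfsg.Agent.RootBN (Data)
open Cfsg.Agent.Chev.BNSetup (tw2E6 orbE6 orbE6_ok facts_chevE6 negTri_chevE6 graphE6_cols)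

/-- The heights of the positive roots. -/
def htList : List ℕ := [1, 1, 2, 1, 2, 3, 1, 2, 3, 4, 1, 2, 3, 4, 3, 4, 5, 5, 6, 7, 1, 2, 3, 4, 5, 4, 5, 6, 6, 7,
  8, 7, 8, 9, 10, 11]

/-- The height of a positive root. -/
def ht (r : ℕ) : ℕ := htList.getD (r - 36) 0

/-- The roots of height at least `k` but one. -/
def levelBut (k r : ℕ) : List ℕ := posR.filter fun x => decide (k ≤ ht x) && !(x == r)

/-- For a root of a short class: a simple class, one of its roots, the others, and the sum. -/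
def raiseCert : List (ℕ × Fin 4 × ℕ × List ℕ × ℕ) :=
  [(36, 2, 37, [42], 38), (37, 1, 39, [], 40), (38, 1, 39, [], 41), (40, 0, 46, [], 48), (41, 0, 46, [], 49),
    (42, 1, 39, [], 43), (43, 0, 46, [], 50), (45, 0, 46, [], 52), (48, 3, 36, [56], 49), (49, 2, 42, [37], 52),
    (50, 3, 56, [36], 61), (52, 1, 39, [], 54), (54, 2, 37, [42], 55), (55, 3, 56, [36], 66), (56, 2, 42, [37], 57),
    (57, 1, 39, [], 58), (58, 0, 46, [], 61), (59, 0, 46, [], 62), (61, 2, 37, [42], 62), (62, 1, 39, [], 64),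
    (64, 2, 42, [37], 67), (67, 3, 36, [56], 68)]

/-- The list attached to a certificate. -/
abbrev raiseS (p : ℕ × Fin 4 × ℕ × List ℕ × ℕ) : List ℕ := levelBut (ht p.1 + 1) p.2.2.2.2

theorem raise_check : ∀ p ∈ raiseCert,
    p.1 ∈ posR ∧ p.2.2.1 ∈ posR ∧ p.2.2.1 ≠ p.1 ∧ p.2.2.2.2 ∈ posR ∧ p.2.2.2.2 ∉ raiseS p ∧
    (∃ k ∈ [(1 : ℤ), -1], chevE6.commTerms p.1 p.2.2.1 = [(p.2.2.2.2, k, 1, 1)]) ∧
    (∀ x ∈ levelBut (ht p.1) p.1, Into x p.2.2.1 (raiseS p)) ∧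
    (∀ b ∈ p.2.2.2.1, b ∈ posR ∧ Into p.1 b (raiseS p) ∧
      ∀ x ∈ levelBut (ht p.1) p.1, Into x b (raiseS p)) ∧
    ((p.2.2.1 :: p.2.2.2.1 = [42, 37] ∨ p.2.2.1 :: p.2.2.2.1 = [37, 42]) ∧ p.2.1 = 2 ∨
      (p.2.2.1 :: p.2.2.2.1 = [56, 36] ∨ p.2.2.1 :: p.2.2.2.1 = [36, 56]) ∧ p.2.1 = 3 ∨
      p.2.2.1 :: p.2.2.2.1 = [46] ∧ p.2.1 = 0 ∨ p.2.2.1 :: p.2.2.2.1 = [39] ∧ p.2.1 = 1) := by
  decide +kernel

theorem raise_norm : ∀ p ∈ raiseCert, NormOK (levelBut (ht p.1) p.1) ∧ NormOK (raiseS p) ∧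
    (∀ x ∈ posR, Into x p.1 (levelBut (ht p.1) p.1)) ∧ ∀ x ∈ posR, Into x p.2.2.2.2 (raiseS p) := by
  decide +kernel

theorem short_cover : ∀ o : Fin 48, 36 ≤ orbE6.repF 48 o → rho (orbE6.repF 48 o) ≠ orbE6.repF 48 o →
    ht (rho (orbE6.repF 48 o)) = ht (orbE6.repF 48 o) ∧
    ((ht (orbE6.repF 48 o) < 8 ∧ (∃ p ∈ raiseCert, p.1 = orbE6.repF 48 o) ∧
      ∃ p ∈ raiseCert, p.1 = rho (orbE6.repF 48 o)) ∨ o = orbE6.orbF 48 66) := by decide +kernel

theorem orbit_ht : ∀ o : Fin 48, 36 ≤ orbE6.repF 48 o →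
    rho (orbE6.repF 48 o) ∈ posR ∧ ht (rho (orbE6.repF 48 o)) = ht (orbE6.repF 48 o) := by decide +kernel

theorem orbit_sep : ∀ o o' : Fin 48, 36 ≤ orbE6.repF 48 o → 36 ≤ orbE6.repF 48 o' → o' ≠ o →
    orbE6.repF 48 o' ≠ orbE6.repF 48 o ∧ orbE6.repF 48 o' ≠ rho (orbE6.repF 48 o) ∧
      rho (orbE6.repF 48 o') ≠ orbE6.repF 48 o ∧ rho (orbE6.repF 48 o') ≠ rho (orbE6.repF 48 o) := by
  decide +kernel

theorem roots_facts : (orbE6.rootsF 48 4 (0 :: orbE6.covF 4 0)).Nodup ∧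
    ∀ o ∈ orbE6.rootsF 48 4 (0 :: orbE6.covF 4 0), 36 ≤ orbE6.repF 48 o := by decide +kernel

variable {K : Type*} [Field K]

/-- The root element. -/
local notation "X" => xg chevE6 K

variable (φ : K ≃+* K)

theorem U_le_pos {g : GL chevE6.Idx K} (hg : g ∈ (tw2E6 φ).data.U) : g ∈ gen chevE6 K posR := by
  refine (show (BNSetup.data E6.good K).U ≤ gen chevE6 K posR from iSup₂_le fun r hr y hy => ?_)
    (RootBN.Twist.U'_le_U (hT φ) hg)
  obtain ⟨t, rfl⟩ := (E6.good : Good chevE6).mem_rootSubgroup_iff.1 hy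
  refine xg_mem_gen (mem_posR.2 ⟨?_, hn ▸ r.2⟩) t
  have : chevE6.nroots / 2 ≤ r.val := hr
  simp only [hn] at this
  exact this

theorem exists_factors {g : GL chevE6.Idx K} (hg : g ∈ (tw2E6 φ).data.U) :
    ∃ ys : List (GL chevE6.Idx K), List.Forall₂ (fun o y => y ∈ (tw2E6 φ).X' o)
      (orbE6.rootsF 48 4 (0 :: orbE6.covF 4 0)) ys ∧ g = ys.prod := by
  have hS := orbE6_ok.2.2.1 0
  have hR : (tw2E6 φ).Longest (0 :: orbE6.covF 4 0) := by
    refine ⟨(BNSetup.reduced_iff E6.good orbE6_ok φ _).2 hS.2.2.2.2.2.2.2.2.2.1, fun r hr => not_le.2 ?_⟩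
    rw [BNSetup.wl_val E6.good facts_chevE6, show ((tw2E6 φ).flat (0 :: orbE6.covF 4 0).reverse).map Fin.val = _
      from BNSetup.flat_val E6.good orbE6_ok φ _]
    exact hS.2.2.2.2.2.2.2.2.2.2 r.val r.2 hr
  rw [← RootBN.Twist.inf_Gt_U (hT φ)] at hg
  obtain ⟨ys, hys, e⟩ := RootBN.Twist.exists_fixed_factor (hT φ) hR hg.1
    (RootBN.Twist.mem_Fix.1 (RootBN.Twist.Gt_le_Fix hg.2))
  rw [show (tw2E6 φ).roots (0 :: orbE6.covF 4 0) = orbE6.rootsF 48 4 (0 :: orbE6.covF 4 0) from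
    BNSetup.roots_eq E6.good orbE6_ok φ _] at hys
  exact ⟨ys, hys, e⟩

theorem forall₂_mem {α β : Type*} {R : α → β → Prop} : ∀ {l : List α} {m : List β}, List.Forall₂ R l m →
    ∀ y ∈ m, ∃ x ∈ l, R x y ∧ (x, y) ∈ l.zip m
  | _, _, .nil, y, hy => by simp at hy
  | _, _, .cons h hl, y, hy => by
    rcases List.mem_cons.1 hy with rfl | hy
    · exact ⟨_, List.mem_cons_self, h, List.mem_cons_self⟩
    · obtain ⟨x, hx, hR, hz⟩ := forall₂_mem hl y hy
      exact ⟨x, List.mem_cons_of_mem _ hx, hR, List.mem_cons_of_mem _ hz⟩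

theorem forall₂_split {α β : Type*} {R : α → β → Prop} : ∀ {l : List α} {m : List β}, List.Forall₂ R l m →
    l.Nodup → ∀ x ∈ l, ∃ A y B, m = A ++ y :: B ∧ R x y ∧ (∀ y', (x, y') ∈ l.zip m → y' = y) ∧
      ∀ z ∈ A ++ B, ∃ x' ∈ l, x' ≠ x ∧ R x' z ∧ (x', z) ∈ l.zip m
  | _, _, .nil, _, x, hx => by simp at hx
  | _, _, .cons (a := a) (b := b) (l₁ := l) (l₂ := m) h hl, hnd, x, hx => by
    rw [List.nodup_cons] at hnd
    rcases List.mem_cons.1 hx with rfl | hx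
    · refine ⟨[], b, m, rfl, h, fun y' hy' => ?_, fun z hz => ?_⟩
      · rw [List.zip_cons_cons] at hy'
        rcases List.mem_cons.1 hy' with e | hy'
        · exact (Prod.ext_iff.1 e).2
        · exact absurd (List.of_mem_zip hy').1 hnd.1
      · obtain ⟨x', hx', hR, hzip⟩ := forall₂_mem hl z hz
        exact ⟨x', List.mem_cons_of_mem _ hx', fun e => hnd.1 (e ▸ hx'), hR, List.mem_cons_of_mem _ hzip⟩
    · obtain ⟨A, y, B, e, hy, huniq, hz⟩ := forall₂_split hl hnd.2 x hx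
      refine ⟨b :: A, y, B, by rw [e]; rfl, hy, fun y' hy' => ?_, fun z hz' => ?_⟩
      · rw [List.zip_cons_cons] at hy'
        rcases List.mem_cons.1 hy' with e' | hy'
        · exact absurd ((show x = a from (Prod.ext_iff.1 e').1) ▸ hx) hnd.1
        · exact huniq y' hy'
      rcases List.mem_cons.1 hz' with rfl | hz'
      · exact ⟨a, List.mem_cons_self, fun e => hnd.1 (e ▸ hx), h, List.mem_cons_self⟩
      · obtain ⟨x', hx', h1, h2, h3⟩ := hz z hz'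
        exact ⟨x', List.mem_cons_of_mem _ hx', h1, h2, List.mem_cons_of_mem _ h3⟩

theorem cg_list {S : List ℕ} (hS : NormOK S) {φ : K ≃+* K} : ∀ {ys : List (GL chevE6.Idx K)},
    (∀ y ∈ ys, y ∈ gen chevE6 K posR) → (∀ y ∈ ys, Cg S (theta φ y) y) → Cg S (theta φ ys.prod) ys.prod
  | [], _, _ => by simp [Cg]
  | y :: ys, h1, h2 => by
    rw [List.prod_cons, map_mul]
    exact (h2 y List.mem_cons_self).mul hS (theta_gen φ (h1 y List.mem_cons_self))
      (cg_list hS (fun z hz => h1 z (List.mem_cons_of_mem _ hz)) fun z hz => h2 z (List.mem_cons_of_mem _ hz))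

theorem class_pos {o : Fin 48} (ho : 36 ≤ orbE6.repF 48 o) {y : GL chevE6.Idx K} (hy : y ∈ (tw2E6 φ).X' o) :
    y ∈ gen chevE6 K posR :=
  Xorb_le_gen φ (mem_posR.2 ⟨ho, (orbit_check o).1⟩) (orbit_ht o ho).1 hy.1

/-- The first place where the factors move gives the congruence class of `θ(g) g⁻¹`. -/
theorem leading {g : GL chevE6.Idx K} {ys : List (GL chevE6.Idx K)}
    (hg : g = ys.prod) {k : ℕ}
    {o : Fin 48} (ho : o ∈ orbE6.rootsF 48 4 (0 :: orbE6.covF 4 0)) {y : GL chevE6.Idx K} {A B : List (GL chevE6.Idx K)}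
    (e : ys = A ++ y :: B) (hy : y ∈ (tw2E6 φ).X' o)
    (hother : ∀ z ∈ A ++ B, ∃ o', o' ∈ orbE6.rootsF 48 4 (0 :: orbE6.covF 4 0) ∧ o' ≠ o ∧ z ∈ (tw2E6 φ).X' o' ∧
      (ht (orbE6.repF 48 o') < k → theta φ z = z))
    {r : ℕ} (hr : r = orbE6.repF 48 o ∨ r = rho (orbE6.repF 48 o)) (hk : ht (orbE6.repF 48 o) = k)
    (hne : rho (orbE6.repF 48 o) ≠ orbE6.repF 48 o)
    (hN : NormOK (levelBut k r)) (hc : ∀ x ∈ posR, Into x r (levelBut k r)) :
    ∃ δ : K, Cg (levelBut k r) (theta φ g * g⁻¹) (X r δ) ∧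
      ((r = orbE6.repF 48 o → ∀ t u, y = X r t * X (rho r) u → δ = φ t - t) ∧
        (r = rho (orbE6.repF 48 o) → ∀ t u, y = X (orbE6.repF 48 o) t * X r u → δ = φ u - u)) := by
  obtain ⟨hnd, hpos⟩ := roots_facts
  have ho36 := hpos o ho
  set a := orbE6.repF 48 o
  set b := rho a
  have hab : a ∈ posR ∧ b ∈ posR := ⟨mem_posR.2 ⟨ho36, (orbit_check o).1⟩, (orbit_ht o ho36).1⟩
  have hrp : r ∈ posR := by rcases hr with rfl | rfl; exacts [hab.1, hab.2]
  have hin : ∀ {x}, x ∈ posR → x ≠ r → k ≤ ht x → ∀ s : K, X x s ∈ gen chevE6 K (levelBut k r) :=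
    fun hx hne hle s => xg_mem_gen (List.mem_filter.2 ⟨hx, by simp [hne, hle]⟩) s
  -- the other factors
  have hrest : ∀ z ∈ A ++ B, z ∈ gen chevE6 K posR ∧ Cg (levelBut k r) (theta φ z) z := by
    intro z hz
    obtain ⟨o', ho', hne', hz', hlow⟩ := hother z hz
    have h36 := hpos o' ho'
    refine ⟨class_pos φ h36 hz', ?_⟩
    rcases lt_or_ge (ht (orbE6.repF 48 o')) k with hlt | hge
    · rw [hlow hlt]
      exact Cg.refl _
    · obtain ⟨n1, n2, n3, n4⟩ := orbit_sep o o' ho36 h36 hne'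
      have hmem : z ∈ gen chevE6 K (levelBut k r) := by
        refine Xorb_le_gen φ (List.mem_filter.2 ⟨mem_posR.2 ⟨h36, (orbit_check o').1⟩, ?_⟩)
          (List.mem_filter.2 ⟨(orbit_ht o' h36).1, ?_⟩) hz'.1
        · rcases hr with rfl | rfl <;> simp [hge, n1, n2, a, b]
        · rcases hr with rfl | rfl <;> simp [(orbit_ht o' h36).2, hge, n3, n4, a, b]
      exact (Cg.of_mem (theta_gen φ hmem)).trans (Cg.of_mem hmem).symm
  obtain ⟨t, u, hytu⟩ := exists_pair φ hy.1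
  have hD : Good chevE6 := E6.good
  have hcomm := xg_commute (K := K) (orbit_check o).1 (orbit_check o).2.1 (orbit_check o).2.2.1 (orbit_check o).2.2.2
  obtain ⟨δ, hyδ, hδ⟩ : ∃ δ : K, Cg (levelBut k r) (theta φ y) (X r δ * y) ∧
      ((r = a ∧ δ = φ t - t) ∨ (r = b ∧ δ = φ u - u)) := by
    have hth : theta φ y = X a (φ t) * X b (φ u) := by rw [hytu, map_mul, theta_xg, theta_xg]
    rcases hr with rfl | rfl
    · refine ⟨φ t - t, ?_, Or.inl ⟨rfl, rfl⟩⟩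
      rw [hth, hytu, ← mul_assoc, hD.xg_add, sub_add_cancel]
      exact ((Cg.of_mem (hin hab.2 hne (by rw [(orbit_ht o ho36).2, hk]) (φ u))).trans
        (Cg.of_mem (hin hab.2 hne (by rw [(orbit_ht o ho36).2, hk]) u)).symm).mul_left hN (xg_mem_gen hab.1 _)
    · refine ⟨φ u - u, ?_, Or.inr ⟨rfl, rfl⟩⟩
      rw [hth, hytu, (hcomm (φ t) (φ u)).eq, (hcomm t u).eq, ← mul_assoc, hD.xg_add, sub_add_cancel]
      exact ((Cg.of_mem (hin hab.1 (Ne.symm hne) (by rw [hk]) (φ t))).trans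
        (Cg.of_mem (hin hab.1 (Ne.symm hne) (by rw [hk]) t)).symm).mul_left hN (xg_mem_gen hab.2 _)
  refine ⟨δ, ?_, ?_, ?_⟩
  · have hA := cg_list hN (φ := φ) (ys := A) (fun z hz => (hrest z (List.mem_append_left _ hz)).1)
      fun z hz => (hrest z (List.mem_append_left _ hz)).2
    have hB := cg_list hN (φ := φ) (ys := B) (fun z hz => (hrest z (List.mem_append_right _ hz)).1)
      fun z hz => (hrest z (List.mem_append_right _ hz)).2
    have hAU : A.prod ∈ gen chevE6 K posR :=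
      Subgroup.list_prod_mem _ fun z hz => (hrest z (List.mem_append_left _ hz)).1
    have hyU : y ∈ gen chevE6 K posR := class_pos φ ho36 hy
    have h1 : Cg (levelBut k r) (theta φ g) (A.prod * (X r δ * y * B.prod)) := by
      rw [hg, e, List.prod_append, List.prod_cons, map_mul, map_mul]
      exact hA.mul hN (theta_gen φ hAU) (hyδ.mul hN (theta_gen φ hyU) hB)
    have h2 : Cg (levelBut k r) (A.prod * X r δ * A.prod⁻¹) (X r δ) :=
      conj_gen hN (fun x hx => hx) hrp (fun x hx => hc x hx) δ hAU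
    have hg' : g = A.prod * (y * B.prod) := by rw [hg, e, List.prod_append, List.prod_cons]
    have h3 : Cg (levelBut k r) (theta φ g * g⁻¹) (A.prod * X r δ * A.prod⁻¹) := by
      have h4 := h1.mul_right (c := g⁻¹)
      rwa [show A.prod * (X r δ * y * B.prod) * g⁻¹ = A.prod * X r δ * A.prod⁻¹ by rw [hg']; group] at h4
    exact h3.trans h2
  · rintro hra t' u' e'
    rcases hδ with ⟨-, rfl⟩ | ⟨hrb, -⟩
    · subst hra
      have h5 : X a (-t + t') = X b (u + -u') := by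
        calc X a (-t + t') = (X a t)⁻¹ * (X a t' * X b u') * (X b u')⁻¹ := by
              rw [← mul_assoc, mul_inv_cancel_right, hD.xg_inv, hD.xg_add]
          _ = (X a t)⁻¹ * (X a t * X b u) * (X b u')⁻¹ := by rw [← e', hytu]
          _ = X b (u + -u') := by rw [inv_mul_cancel_left, hD.xg_inv, hD.xg_add]
      have := sep_one hN hrp (by simp [levelBut]) (h5 ▸ hin hab.2 hne (by rw [(orbit_ht o ho36).2, hk]) _ :
        X a (-t + t') ∈ gen chevE6 K (levelBut k a))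
      rw [show t' = t by linear_combination this]
    · exact absurd (hra.symm.trans hrb).symm hne
  · rintro hrb t' u' e'
    rcases hδ with ⟨hra, -⟩ | ⟨-, rfl⟩
    · exact absurd (hrb.symm.trans hra) hne
    · subst hrb
      have h5 : X b (u + -u') = X a (-t + t') := by
        calc X b (u + -u') = (X a t)⁻¹ * (X a t * X b u) * (X b u')⁻¹ := by
              rw [inv_mul_cancel_left, hD.xg_inv, hD.xg_add]
          _ = (X a t)⁻¹ * (X a t' * X b u') * (X b u')⁻¹ := by rw [← hytu, e']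
          _ = X a (-t + t') := by rw [← mul_assoc, mul_inv_cancel_right, hD.xg_inv, hD.xg_add]
      have := sep_one hN hrp (by simp [levelBut]) (h5 ▸ hin hab.1 (Ne.symm hne) (by rw [hk]) _ :
        X b (u + -u') ∈ gen chevE6 K (levelBut k b))
      rw [show u' = u by linear_combination -this]

theorem simple_one (hinv : ∀ x, φ (φ x) = x) {p : ℕ × Fin 4 × ℕ × List ℕ × ℕ} (hp : p ∈ raiseCert) :
    ∃ x z : GL chevE6.Idx K, x ∈ (tw2E6 φ).X' (orbE6.simpF 48 4 p.2.1) ∧ x ∈ fixT φ ∧ x = X p.2.2.1 1 * z ∧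
      (z = 1 ∨ ∃ b ∈ p.2.2.2.1, z = X b 1) := by
  obtain ⟨-, -, -, -, -, -, -, -, hj⟩ := raise_check p hp
  have hS : ∀ j : Fin 4, j = 2 ∨ j = 3 → eS φ j 1 ∈ (tw2E6 φ).X' (orbE6.simpF 48 4 j) ∧ eS φ j 1 ∈ fixT φ ∧
      eS φ j (1 : K) = X (fstRoot j) 1 * X (sndRoot j) 1 ∧ eS φ j (1 : K) = X (sndRoot j) 1 * X (fstRoot j) 1 := by
    intro j hj'
    refine ⟨eS_mem φ hinv hj' 1, eS_fix (map_one φ), by rw [eS_eq, map_one], ?_⟩
    have hc : ∀ j : Fin 4, chevE6.commTerms (fstRoot j) (sndRoot j) = [] ∧ fstRoot j < 72 ∧ sndRoot j < 72 ∧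
        sndRoot j ≠ chevE6.neg (fstRoot j) := by decide +kernel
    obtain ⟨h1, h2, h3, h4⟩ := hc j
    rw [eS_eq, map_one, (xg_commute (K := K) h2 h3 h1 h4 1 1).eq]
  have hL : ∀ j : Fin 4, j = 0 ∨ j = 1 → X (longRoot j) 1 ∈ (tw2E6 φ).X' (orbE6.simpF 48 4 j) ∧
      X (longRoot j) (1 : K) ∈ fixT φ := fun j hj' =>
    ⟨long_mem φ hj' (map_one φ), by rw [mem_fixT, theta_xg, map_one]⟩
  obtain ⟨r, j, a, rest, s⟩ := p
  simp only at hj ⊢
  rcases hj with ⟨hl, rfl⟩ | ⟨hl, rfl⟩ | ⟨hl, rfl⟩ | ⟨hl, rfl⟩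
  · obtain ⟨m, f, e1, e2⟩ := hS 2 (Or.inl rfl)
    simp only [List.cons.injEq] at hl
    rcases hl with ⟨rfl, rfl⟩ | ⟨rfl, rfl⟩
    · exact ⟨_, _, m, f, e1, Or.inr ⟨_, List.mem_cons_self, rfl⟩⟩
    · exact ⟨_, _, m, f, e2, Or.inr ⟨_, List.mem_cons_self, rfl⟩⟩
  · obtain ⟨m, f, e1, e2⟩ := hS 3 (Or.inr rfl)
    simp only [List.cons.injEq] at hl
    rcases hl with ⟨rfl, rfl⟩ | ⟨rfl, rfl⟩
    · exact ⟨_, _, m, f, e1, Or.inr ⟨_, List.mem_cons_self, rfl⟩⟩
    · exact ⟨_, _, m, f, e2, Or.inr ⟨_, List.mem_cons_self, rfl⟩⟩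
  · simp only [List.cons.injEq] at hl
    obtain ⟨rfl, rfl⟩ := hl
    obtain ⟨m, f⟩ := hL 0 (Or.inl rfl)
    exact ⟨_, 1, m, f, (mul_one _).symm, Or.inl rfl⟩
  · simp only [List.cons.injEq] at hl
    obtain ⟨rfl, rfl⟩ := hl
    obtain ⟨m, f⟩ := hL 1 (Or.inr rfl)
    exact ⟨_, 1, m, f, (mul_one _).symm, Or.inl rfl⟩

/-- An element commuting with a fixed simple element has no leading coordinate. -/
theorem leading_zero {p : ℕ × Fin 4 × ℕ × List ℕ × ℕ} (hp : p ∈ raiseCert) {d z : GL chevE6.Idx K} {δ : K}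
    (hd : Cg (levelBut (ht p.1) p.1) d (X p.1 δ)) (hz : z = 1 ∨ ∃ b ∈ p.2.2.2.1, z = X b 1)
    (hcomm : d * (X p.2.2.1 1 * z) * d⁻¹ = X p.2.2.1 1 * z) : δ = 0 := by
  obtain ⟨hr, ha, har, hs, hsS, ⟨k, hk, hterm⟩, hLa, hLb, -⟩ := raise_check p hp
  obtain ⟨hN0, hN, -, hcen⟩ := raise_norm p hp
  obtain ⟨r, j, a, rest, s⟩ := p
  simp only at *
  set S := raiseS (r, j, a, rest, s)
  set w := d * (X r δ)⁻¹ with hwdef
  have hw : w ∈ gen chevE6 K (levelBut (ht r) r) := hd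
  have hL : ∀ x ∈ levelBut (ht r) r, x ∈ posR := fun x hx => (List.mem_filter.1 hx).1
  have hwU : w ∈ gen chevE6 K posR := gen_mono hL hw
  have hD : Good chevE6 := E6.good
  have hc := comm_word (K := K) (mem_posR.1 hr).2 (mem_posR.1 ha).2 har
    (fun e' => ng_ne hr ha (by rw [e', E6.valid.ng_eq (hn.symm ▸ (mem_posR.1 hr).2)])) hterm δ 1
  have hzU : z ∈ gen chevE6 K posR := by
    rcases hz with rfl | ⟨b, hb, rfl⟩
    exacts [Subgroup.one_mem _, xg_mem_gen (hLb b hb).1 _]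
  have hsU : X s ((k : K) * (δ * 1)) ∈ gen chevE6 K posR := xg_mem_gen hs _
  have hz2 : Cg S (X r δ * z * (X r δ)⁻¹) z ∧ Cg S (w * z * w⁻¹) z := by
    rcases hz with rfl | ⟨b, hb, rfl⟩
    · simp [Cg]
    · exact ⟨conj_root hN hr (hLb b hb).1 (hLb b hb).2.1 δ 1,
        conj_gen hN hL (hLb b hb).1 (fun x hx => (hLb b hb).2.2 x hx) 1 hw⟩
  have h1 : Cg S (X r δ * (X a 1 * z) * (X r δ)⁻¹) (X s ((k : K) * (δ * 1)) * X a 1 * z) := by
    rw [show X r δ * (X a 1 * z) * (X r δ)⁻¹ =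
      (X r δ * X a 1 * (X r δ)⁻¹ * (X a 1)⁻¹) * X a 1 * (X r δ * z * (X r δ)⁻¹) by group, hc]
    exact hz2.1.mul_left hN (Subgroup.mul_mem _ hsU (xg_mem_gen ha _))
  have h2 : Cg S (w * (X s ((k : K) * (δ * 1)) * X a 1 * z) * w⁻¹) (X s ((k : K) * (δ * 1)) * X a 1 * z) := by
    rw [show w * (X s ((k : K) * (δ * 1)) * X a 1 * z) * w⁻¹ =
      (w * X s ((k : K) * (δ * 1)) * w⁻¹) * (w * X a 1 * w⁻¹) * (w * z * w⁻¹) by group]
    refine Cg.mul hN ?_ (Cg.mul hN ?_ ?_ ?_) hz2.2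
    · exact Subgroup.mul_mem _ (Subgroup.mul_mem _ (Subgroup.mul_mem _ hwU hsU) (Subgroup.inv_mem _ hwU))
        (Subgroup.mul_mem _ (Subgroup.mul_mem _ hwU (xg_mem_gen ha _)) (Subgroup.inv_mem _ hwU))
    · exact Subgroup.mul_mem _ (Subgroup.mul_mem _ hwU hsU) (Subgroup.inv_mem _ hwU)
    · exact conj_gen hN (fun x hx => hL x hx) hs (fun x hx => hcen x (hL x hx)) _ hw
    · exact conj_gen hN hL ha hLa 1 hw
  have hd' : d = w * X r δ := by rw [hwdef, inv_mul_cancel_right]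
  have h3 : Cg S (X a 1 * z) (X s ((k : K) * (δ * 1)) * X a 1 * z) := by
    rw [← hcomm, hd', show w * X r δ * (X a 1 * z) * (w * X r δ)⁻¹ =
      w * (X r δ * (X a 1 * z) * (X r δ)⁻¹) * w⁻¹ by group]
    exact (h1.conj hN hwU).trans h2
  have h4 : X s ((k : K) * (δ * 1)) ∈ gen chevE6 K S := by
    refine Cg.mem ?_
    have := h3.symm.mul_right (c := (X a 1 * z)⁻¹)
    simpa [mul_assoc] using this
  have h5 := sep_one hN hs hsS h4
  simp only [List.mem_cons, List.not_mem_nil, or_false] at hk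
  rcases hk with rfl | rfl <;> simpa using h5

theorem simp_le_U (j : Fin 4) {x : GL chevE6.Idx K} (hx : x ∈ (tw2E6 φ).X' (orbE6.simpF 48 4 j)) :
    x ∈ (tw2E6 φ).data.U :=
  Data.X_le_U ((hax φ).pos_simp j) hx

variable [Fintype K] {q : ℕ} (h : Hyp φ q) {H : Subgroup (GL chevE6.Idx K)} (hM : MF φ ≤ H)
  (hH : H ≤ (tw2E6 φ).Gt) (hne : H ≠ (tw2E6 φ).Gt) (p : ℕ) [Fact p.Prime] [CharP K p]
include h hM hH hne p

/-- No new elements in the unipotent subgroup. -/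
theorem unipotent_fixed : ∀ u ∈ H, u ∈ (tw2E6 φ).data.U → u ∈ fixT φ := by
  by_contra hcon
  push Not at hcon
  obtain ⟨u, huH, huU, hu⟩ := hcon
  set P := H ⊓ (tw2E6 φ).data.U with hP
  have hUp : IsPGroup p (tw2E6 φ).data.U :=
    (ChevSylow.isPGroup_posUnipotent p E6.good facts_chevE6 (F := K)).to_le
      ((RootBN.Twist.U'_le_U (hT φ)).trans (BNSetup.data_U E6.good facts_chevE6).le)
  have hPp : IsPGroup p P := hUp.to_le inf_le_right
  haveI : Finite P := Subtype.finite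
  haveI := hPp.isNilpotent
  have hlt : (MF φ).subgroupOf P < ⊤ := lt_top_iff_ne_top.2 fun e => by
    have h1 : (⟨u, huH, huU⟩ : P) ∈ (MF φ).subgroupOf P := e ▸ Subgroup.mem_top _
    exact hu (Subgroup.mem_subgroupOf.1 h1).2
  obtain ⟨g, hgN, hgS⟩ := SetLike.exists_of_lt (Group.normalizerCondition_of_isNilpotent _ hlt)
  obtain ⟨g, hgH, hgU⟩ := g
  have hnorm : ∀ x ∈ MF φ, x ∈ (tw2E6 φ).data.U → theta φ g * g⁻¹ * x * (theta φ g * g⁻¹)⁻¹ = x := by
    intro x hxM hxU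
    obtain ⟨x', hx'⟩ : ∃ x' : P, (x' : GL chevE6.Idx K) = g⁻¹ * x * g :=
      ⟨⟨g⁻¹ * x * g, H.mul_mem (H.mul_mem (H.inv_mem hgH) (hM hxM)) hgH,
        Subgroup.mul_mem _ (Subgroup.mul_mem _ (Subgroup.inv_mem _ hgU) hxU) hgU⟩, rfl⟩
    have hx'M : (x' : GL chevE6.Idx K) ∈ fixT φ := by
      have := (Subgroup.mem_normalizer_iff''.1 hgN ⟨x, hM hxM, hxU⟩).1 (Subgroup.mem_subgroupOf.2 hxM)
      rw [Subgroup.mem_subgroupOf] at this
      rw [hx']
      exact this.2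
    rw [hx', mem_fixT, map_mul, map_mul, map_inv, (mem_fixT φ).1 hxM.2] at hx'M
    calc theta φ g * g⁻¹ * x * (theta φ g * g⁻¹)⁻¹ = theta φ g * (g⁻¹ * x * g) * (theta φ g)⁻¹ := by group
      _ = theta φ g * ((theta φ g)⁻¹ * x * theta φ g) * (theta φ g)⁻¹ := by rw [hx'M]
      _ = x := by group
  obtain ⟨ys, hys, e⟩ := exists_factors φ hgU
  obtain ⟨hnd, hpos⟩ := roots_facts
  have hclass : ∀ k, ∀ o ∈ orbE6.rootsF 48 4 (0 :: orbE6.covF 4 0), ∀ y,
      (o, y) ∈ (orbE6.rootsF 48 4 (0 :: orbE6.covF 4 0)).zip ys →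
      ht (orbE6.repF 48 o) < k → o ≠ orbE6.orbF 48 66 → theta φ y = y := by
    intro k
    induction k with
    | zero => intros; omega
    | succ k ih =>
      intro o ho y hzip hlt' ho66
      rcases Nat.lt_or_ge (ht (orbE6.repF 48 o)) k with hlt'' | hge
      · exact ih o ho y hzip hlt'' ho66
      have hk : ht (orbE6.repF 48 o) = k := by omega
      obtain ⟨A, y₀, B, es, hy, huniq, hother⟩ := forall₂_split hys hnd o ho
      obtain rfl : y = y₀ := huniq y hzip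
      by_cases hlong : rho (orbE6.repF 48 o) = orbE6.repF 48 o
      · exact (long_fix φ hlong hy).2
      obtain ⟨-, hc⟩ := short_cover o (hpos o ho) hlong
      obtain ⟨hk8, ⟨pa, hpa, ea⟩, pb, hpb, eb⟩ := hc.resolve_right ho66
      have h66 : ht (orbE6.repF 48 (orbE6.orbF 48 66)) = 8 := by decide +kernel
      have hother' : ∀ z ∈ A ++ B, ∃ o', o' ∈ orbE6.rootsF 48 4 (0 :: orbE6.covF 4 0) ∧ o' ≠ o ∧
          z ∈ (tw2E6 φ).X' o' ∧ (ht (orbE6.repF 48 o') < k → theta φ z = z) := fun z hz => by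
        obtain ⟨o', ho', hne', hz', hzip'⟩ := hother z hz
        exact ⟨o', ho', hne', hz', fun hlt3 => ih o' ho' z hzip' hlt3 fun e66 => by
          rw [e66] at hlt3; omega⟩
      have hkey : ∀ pc ∈ raiseCert, pc.1 = orbE6.repF 48 o ∨ pc.1 = rho (orbE6.repF 48 o) →
          ∀ δ, Cg (levelBut k pc.1) (theta φ g * g⁻¹) (X pc.1 δ) → δ = 0 := by
        intro pc hpc hpr δ hδ
        obtain ⟨x, z, hxX, hxf, rfl, hz⟩ := simple_one φ h.inv hpc
        refine leading_zero hpc (d := theta φ g * g⁻¹) (z := z) ?_ hz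
          (hnorm _ ⟨RootBN.Twist.X'_le_Gt _ hxX, hxf⟩ (simp_le_U φ _ hxX))
        have : ht pc.1 = k := by
          rcases hpr with e' | e' <;> rw [e']
          exacts [hk, (orbit_ht o (hpos o ho)).2.trans hk]
        rw [this]
        exact hδ
      obtain ⟨hNa, -, hca, -⟩ := raise_norm pa hpa
      obtain ⟨hNb, -, hcb, -⟩ := raise_norm pb hpb
      rw [ea, hk] at hNa hca
      rw [eb, (orbit_ht o (hpos o ho)).2, hk] at hNb hcb
      obtain ⟨δa, hda, hta, -⟩ := leading φ e ho es hy hother' (Or.inl rfl) hk hlong hNa hca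
      obtain ⟨δb, hdb, -, htb⟩ := leading φ e ho es hy hother' (Or.inr rfl) hk hlong hNb hcb
      obtain ⟨t, u, etu⟩ := exists_pair φ hy.1
      have ha0 := hkey pa hpa (Or.inl ea) δa (by rw [ea]; exact hda)
      have hb0 := hkey pb hpb (Or.inr eb) δb (by rw [eb]; exact hdb)
      have e1 := hta rfl t u etu
      have e2 := htb rfl t u etu
      rw [ha0] at e1
      rw [hb0] at e2
      rw [etu, map_mul, theta_xg, theta_xg, sub_eq_zero.1 e1.symm, sub_eq_zero.1 e2.symm]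
  have ho66 : orbE6.orbF 48 66 ∈ orbE6.rootsF 48 4 (0 :: orbE6.covF 4 0) := by decide +kernel
  obtain ⟨A, y, B, es, hy, -, hother⟩ := forall₂_split hys hnd _ ho66
  have hfixed : ∀ z ∈ A ++ B, z ∈ MF φ := by
    intro z hz
    obtain ⟨o', ho', hne', hz', hzip'⟩ := hother z hz
    exact ⟨RootBN.Twist.X'_le_Gt _ hz', hclass (ht (orbE6.repF 48 o') + 1) o' ho' z hzip' (Nat.lt_succ_self _) hne'⟩
  have hA : A.prod ∈ MF φ := Subgroup.list_prod_mem _ fun z hz => hfixed z (List.mem_append_left _ hz)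
  have hB : B.prod ∈ MF φ := Subgroup.list_prod_mem _ fun z hz => hfixed z (List.mem_append_right _ hz)
  rw [es, List.prod_append, List.prod_cons] at e
  have hyH : y ∈ H := by
    have := H.mul_mem (H.mul_mem (H.inv_mem (hM hA)) hgH) (H.inv_mem (hM hB))
    rwa [e, inv_mul_cancel_left, mul_inv_cancel_right] at this
  refine hgS (Subgroup.mem_subgroupOf.2 ?_)
  show g ∈ MF φ
  rw [e]
  exact Subgroup.mul_mem _ hA (Subgroup.mul_mem _ (class_fixed h hM hH hne hy hyH) hB)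

end Cfsg.Agent.E6Sub
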