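/-
²E₆(q): the cells of a proper subgroup containing the fixed elements. For an element of such a subgroup the
conjugate of a long root element, or its commutator with the highest root element, lies in `U`; this forces the
first parameter of the element to be fixed.
-/
import Cfsg.Agent.Lib.Chev.E6Subfield.Unipotent
import Cfsg.Agent.Lib.Chev.AutOut

set_option autoImplicit false

namespace Cfsg.Agent.E6Sub

open Cfsg.Lie Cfsg.Agent.Chev Cfsg.Agent.Chev.Invol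
open Cfsg.Agent.RootBN (Data evWord)
open Cfsg.Agent.Chev.BNSetup (tw2E6 orbE6 orbE6_ok facts_chevE6 negTri_chevE6 graphE6_cols xg_eq_xe torusHom
  torusChar)

/-- A reduced word of the longest element. -/
def topWord : List (Fin 4) := [0, 1, 0, 2, 1, 3, 2, 0, 1, 0, 2, 1, 3, 2, 1, 0, 2, 1, 2, 3, 2, 1, 2, 3]

/-- Certificate for a short first letter of an end of the word. -/
structure CellCert where
  pos : ℕ
  neg : Bool
  tau : ℕ
  above : List ℕ
  img : ℕ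
  gam : ℕ
  fstA : ℕ
  sndB : ℕ
  tgt : ℕ
  modS : List ℕ

def cellCerts : List CellCert :=
  [⟨3, true, 71, [], 2, 47, 42, 37, 50, [48, 49, 51, 52, 53, 54, 55, 61, 62, 63, 64, 65, 66, 67, 68, 69, 70, 71]⟩,
    ⟨5, true, 71, [], 8, 53, 56, 36, 64, [54, 55, 65, 66, 67, 68, 69, 70, 71]⟩,
    ⟨6, true, 71, [], 20, 65, 42, 37, 68, [66, 69, 70, 71]⟩,
    ⟨10, false, 71, [], 47, 47, 42, 37, 50, [48, 49, 51, 52, 53, 54, 55, 61, 62, 63, 64, 65, 66, 67, 68, 69, 70, 71]⟩,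
    ⟨12, false, 71, [], 53, 53, 56, 36, 64, [54, 55, 65, 66, 67, 68, 69, 70, 71]⟩,
    ⟨13, false, 71, [], 65, 65, 42, 37, 68, [66, 69, 70, 71]⟩,
    ⟨16, false, 70, [71], 47, 47, 42, 37, 50, [48, 49, 51, 52, 53, 54, 55, 61, 62, 63, 64, 65, 66, 67, 68, 69, 70, 71]⟩,
    ⟨18, false, 69, [70, 71], 47, 47, 42, 37, 50, [48, 49, 51, 52, 53, 54, 55, 61, 62, 63, 64, 65, 66, 67, 68, 69, 70, 71]⟩,
    ⟨19, false, 69, [70, 71], 51, 51, 56, 36, 62, [52, 53, 54, 55, 63, 64, 65, 66, 67, 68, 69, 70, 71]⟩,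
    ⟨20, false, 65, [66, 68, 69, 70, 71], 47, 47, 42, 37, 50, [48, 49, 51, 52, 53, 54, 55, 61, 62, 63, 64, 65, 66, 67, 68, 69, 70, 71]⟩,
    ⟨22, false, 60, [63, 65, 66, 68, 69, 70, 71], 39, 39, 42, 37, 43, [40, 41, 44, 45, 47, 48, 49, 50, 51, 52, 53, 54, 55, 58, 59, 60, 61, 62, 63, 64, 65, 66, 67, 68, 69, 70, 71]⟩,
    ⟨23, false, 60, [63, 65, 66, 68, 69, 70, 71], 44, 44, 56, 36, 59, [45, 51, 52, 53, 54, 55, 60, 62, 63, 64, 65, 66, 67, 68, 69, 70, 71]⟩]

/-- The positive roots other than one. -/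
def posBut (a : ℕ) : List ℕ := posR.filter fun x => !(x == a)

/-- The roots of the word applied to a root. -/
abbrev flatImg (l : List (Fin 4)) (r : ℕ) : ℕ := evWord WeylTab.tabsE6 (orbE6.flatN 4 l) r

/-- What is checked of a certificate on the roots. -/
abbrev RootsOK (c : CellCert) : Prop :=
  NormOK c.above ∧ NormOK c.modS ∧ NormOK (c.tgt :: c.modS) ∧ c.tau ∈ posR ∧ c.fstA ∈ posR ∧ c.sndB ∈ posR ∧
    c.gam ∈ posR ∧ c.gam ∉ c.tgt :: c.modS ∧ c.tgt ∉ c.modS ∧ c.gam ≠ c.fstA ∧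
    (∀ r ∈ posR, Into r c.tau c.above) ∧ c.img < 72

/-- What is checked of a certificate on the commutators. -/
abbrev CommOK (c : CellCert) : Prop :=
  (∃ k ∈ [(1 : ℤ), -1], chevE6.commTerms c.fstA c.gam = [(c.tgt, k, 1, 1)]) ∧ Into c.sndB c.gam c.modS ∧
    Into c.gam c.tgt c.modS ∧ (∀ r ∈ posBut c.fstA, Into r c.gam c.modS) ∧
    (c.neg = true → c.tau = 71 ∧ c.above = [] ∧ c.img ≠ 71 ∧ c.img ≠ chevE6.neg 71 ∧
        ∃ k ∈ [(1 : ℤ), -1], chevE6.commTerms 71 c.img = [(c.gam, k, 1, 1)]) ∧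
    (c.neg = false → c.gam = c.img)

/-- What is checked of a certificate on the word. -/
abbrev WordOK (c : CellCert) : Prop :=
  flatImg (topWord.drop c.pos) c.tau = c.img ∧ (∀ r ∈ c.above, flatImg (topWord.drop c.pos) r ∈ c.modS) ∧
    rho c.tau = c.tau ∧ orbE6.repF 48 (orbE6.orbF 48 c.tau) = c.tau

theorem roots_ok : ∀ c ∈ cellCerts, RootsOK c := by
  decide +kernel

set_option synthInstance.maxSize 4000 in
theorem comm_ok : ∀ c ∈ cellCerts, CommOK c := by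
  decide +kernel

theorem word_ok : ∀ c ∈ cellCerts, WordOK c := by
  decide +kernel

theorem letters_check : ∀ k < 24, ∀ j l, topWord.drop k = j :: l → j = 0 ∨ j = 1 ∨
    ((j = 2 ∨ j = 3) ∧ ∃ c ∈ cellCerts, c.pos = k ∧ (c.fstA = fstRoot j ∧ c.sndB = sndRoot j ∨
      c.fstA = sndRoot j ∧ c.sndB = fstRoot j)) := by
  intro k hk j l e
  have key : ∀ k < 24, ((topWord.drop k).head? = some 0 ∨ (topWord.drop k).head? = some 1 ∨
      ∃ j ∈ [(2 : Fin 4), 3], (topWord.drop k).head? = some j ∧ ∃ c ∈ cellCerts, c.pos = k ∧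
        (c.fstA = fstRoot j ∧ c.sndB = sndRoot j ∨ c.fstA = sndRoot j ∧ c.sndB = fstRoot j)) := by
    decide +kernel
  have h := key k hk
  rw [e] at h
  simp only [List.head?_cons, Option.some.injEq, List.mem_cons, List.not_mem_nil, or_false] at h
  rcases h with h | h | ⟨j', hj', rfl, hc⟩
  · exact Or.inl h
  · exact Or.inr (Or.inl h)
  · exact Or.inr (Or.inr ⟨hj', hc⟩)

theorem urad_check : ∀ j : Fin 4, j = 2 ∨ j = 3 → ∀ o : Fin 48, 36 ≤ orbE6.repF 48 o →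
    o ≠ orbE6.simpF 48 4 j → ∀ a ∈ [fstRoot j, sndRoot j],
      orbE6.repF 48 o ≠ a ∧ rho (orbE6.repF 48 o) ≠ a := by decide +kernel

theorem simple_sep : ∀ a ∈ [56, 46, 42, 39, 37, 36], NormOK (posBut a) ∧ a ∈ posR ∧ a ∉ posBut a ∧
    ∀ r ∈ posR, Into r a (posBut a) := by decide +kernel

variable {K : Type*} [Field K]

/-- The root element. -/
local notation "X" => xg chevE6 K

variable (φ : K ≃+* K)

theorem torusChar_reflect (c : Fin chevE6.rank → Kˣ) {i r : ℕ} (hi : i < chevE6.rank) (hr : r < chevE6.nroots) :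
    torusChar chevE6 c (chevE6.reflectRoot i r) =
      torusChar chevE6 c r * (torusChar chevE6 c (chevE6.simple i))⁻¹ ^ chevE6.cartan i r := by
  simp only [torusChar, ← Finset.prod_inv_distrib, ← Finset.prod_zpow, ← Finset.prod_mul_distrib]
  refine Finset.prod_congr rfl fun j _ => ?_
  rw [E6.good.cartan_reflectRoot hi j.2 hr, ← zpow_neg, ← zpow_mul, ← zpow_add]
  congr 1
  ring

/-- A torus element with fixed characters on the fundamental roots is fixed. -/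
theorem torus_fix (c : Fin chevE6.rank → Kˣ)
    (h : ∀ i < chevE6.rank, φ (torusChar chevE6 c (chevE6.simple i) : K) = torusChar chevE6 c (chevE6.simple i)) :
    torusHom K chevE6 c ∈ fixT φ := by
  have hall : ∀ r < chevE6.nroots, φ (torusChar chevE6 c r : K) = torusChar chevE6 c r := fun r hr =>
    E6.good.root_induction (P := fun r => φ (torusChar chevE6 c r : K) = torusChar chevE6 c r) h
      (fun i hi s hs ih => by
        rw [torusChar_reflect c hi hs, Units.val_mul, map_mul, ih, Units.val_zpow_eq_zpow_val, map_zpow₀,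
          Units.val_inv_eq_inv_val, map_inv₀, h i hi]) hr
  rw [mem_fixT]
  refine Units.ext ?_
  show (torusHom K chevE6 c : Matrix chevE6.Idx chevE6.Idx K).map φ = _
  rw [BNSetup.coe_torusHom]
  ext i j
  rcases i with i | i <;> rcases j with j | j <;>
    simp [hdiag, Matrix.diagonal, apply_ite φ, fun s : Fin chevE6.nroots => hall s.val s.2]

theorem exists_torus {t : GL chevE6.Idx K} (ht : t ∈ (tw2E6 φ).data.H) :
    ∃ c, torusHom K chevE6 c = t := by
  have h1 : t ∈ chevE6.diagonalSubgroup K := ht.1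
  rwa [BNSetup.diagonal_eq_range E6.good, MonoidHom.mem_range] at h1

theorem conj_xg (c : Fin chevE6.rank → Kˣ) {r : ℕ} (hr : r < 72) (t : K) :
    torusHom K chevE6 c * X r t * (torusHom K chevE6 c)⁻¹ = X r ((torusChar chevE6 c r : K) * t) := by
  rw [xg_eq_xe E6.good, xg_eq_xe E6.good]
  exact BNSetup.torusHom_conj E6.good c r (hn.symm ▸ hr) t

theorem torus_gen (c : Fin chevE6.rank → Kˣ) {S : List ℕ} (hS : ∀ s ∈ S, s < 72) {g : GL chevE6.Idx K}
    (hg : g ∈ gen chevE6 K S) : torusHom K chevE6 c * g * (torusHom K chevE6 c)⁻¹ ∈ gen chevE6 K S :=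
  (show gen chevE6 K S ≤ (gen chevE6 K S).comap (MulAut.conj (torusHom K chevE6 c)).toMonoidHom from
    gen_le fun r hr t => by
      show torusHom K chevE6 c * X r t * (torusHom K chevE6 c)⁻¹ ∈ gen chevE6 K S
      rw [conj_xg c (hS r hr)]
      exact xg_mem_gen hr _) hg

/-- Conjugation of a congruence class of a root element by an element of `B`. -/
theorem B_conj_root {S : List ℕ} (hS : NormOK S) {τ : ℕ} (hτ : τ ∈ posR) (hc : ∀ r ∈ posR, Into r τ S)
    {b : GL chevE6.Idx K} (hb : b ∈ (tw2E6 φ).data.B) {d : K} (hd : d ≠ 0) :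
    ∃ e : K, e ≠ 0 ∧ Cg S (b * X τ d * b⁻¹) (X τ e) := by
  obtain ⟨u, hu, t, ht, rfl⟩ := (Data.mem_B_iff (hax φ)).1 hb
  obtain ⟨c, rfl⟩ := exists_torus φ ht
  refine ⟨(torusChar chevE6 c τ : K) * d, mul_ne_zero (Units.ne_zero _) hd, ?_⟩
  rw [show u * torusHom K chevE6 c * X τ d * (u * torusHom K chevE6 c)⁻¹ =
    u * (torusHom K chevE6 c * X τ d * (torusHom K chevE6 c)⁻¹) * u⁻¹ by group, conj_xg c (mem_posR.1 hτ).2]
  exact conj_gen hS (fun x hx => hx) hτ hc _ (U_le_pos φ hu)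

theorem nw_conj (l : List (Fin 4)) {r : ℕ} (hr : r < 72) :
    ∃ e : K, (e = 1 ∨ e = -1) ∧ ∀ t, (tw2E6 φ).data.nw l * X r t * ((tw2E6 φ).data.nw l)⁻¹ =
      X (flatImg l r) (e * t) := by
  obtain ⟨e, he, h⟩ := BNSetup.nw_conj_xe_sign (F := K) E6.good facts_chevE6 ((tw2E6 φ).flat l)
    (⟨r, hn.symm ▸ hr⟩ : Fin chevE6.nroots)
  refine ⟨e, he, fun t => ?_⟩
  rw [RootBN.Twist.nw_data, xg_eq_xe E6.good, xg_eq_xe E6.good]
  refine (h t).trans ?_
  rw [BNSetup.wl_val E6.good facts_chevE6, show ((tw2E6 φ).flat l).map Fin.val = orbE6.flatN 4 l from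
    BNSetup.flat_val E6.good orbE6_ok φ l]

theorem Urad_le {j : Fin 4} (hj : j = 2 ∨ j = 3) {a : ℕ} (ha : a ∈ [fstRoot j, sndRoot j]) {v : GL chevE6.Idx K}
    (hv : v ∈ (tw2E6 φ).data.Urad j) : v ∈ gen chevE6 K (posBut a) := by
  refine (show (tw2E6 φ).data.Urad j ≤ gen chevE6 K (posBut a) from iSup₂_le fun o ho y hy => ?_) hv
  have h36 : 36 ≤ orbE6.repF 48 o := by
    have h1 : chevE6.nroots / 2 ≤ orbE6.repF 48 o := ho.1
    rw [hn] at h1
    exact h1
  obtain ⟨n1, n2⟩ := urad_check j hj o h36 ho.2 a ha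
  exact Xorb_le_gen φ (List.mem_filter.2 ⟨mem_posR.2 ⟨h36, (orbit_check o).1⟩, by simp [n1]⟩)
    (List.mem_filter.2 ⟨(orbit_ht o h36).1, by simp [n2]⟩) hy.1

variable [Fintype K] {q : ℕ} (h : Hyp φ q) {H : Subgroup (GL chevE6.Idx K)} (hM : MF φ ≤ H)
  (hH : H ≤ (tw2E6 φ).Gt) (hne : H ≠ (tw2E6 φ).Gt) (p : ℕ) [Fact p.Prime] [CharP K p]
include h hM hH hne p

/-- The Borel subgroup meets the subgroup in fixed elements. -/
theorem borel_fixed : ∀ g ∈ H, g ∈ (tw2E6 φ).data.B → g ∈ fixT φ := by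
  intro g hgH hgB
  obtain ⟨u, hu, t, ht, rfl⟩ := (Data.mem_B_iff (hax φ)).1 hgB
  obtain ⟨c, rfl⟩ := exists_torus φ ht
  have key : ∀ a ∈ [56, 46, 42, 39, 37, 36], ∀ x ∈ MF φ, x ∈ (tw2E6 φ).data.U →
      Cg (posBut a) x (X a 1) → φ (torusChar chevE6 c a : K) = torusChar chevE6 c a := by
    intro a ha x hxM hxU hx
    obtain ⟨hS, hap, haS, hc⟩ := simple_sep a ha
    have hRU : u * torusHom K chevE6 c * x * (u * torusHom K chevE6 c)⁻¹ ∈ (tw2E6 φ).data.U := by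
      rw [show u * torusHom K chevE6 c * x * (u * torusHom K chevE6 c)⁻¹ =
        u * (torusHom K chevE6 c * x * (torusHom K chevE6 c)⁻¹) * u⁻¹ by group]
      exact Subgroup.mul_mem _ (Subgroup.mul_mem _ hu (Data.H_conj_U (hax φ) ht hxU)) (Subgroup.inv_mem _ hu)
    set R := u * torusHom K chevE6 c * x * (u * torusHom K chevE6 c)⁻¹ with hR
    have hRfix := unipotent_fixed φ h hM hH hne p R (H.mul_mem (H.mul_mem hgH (hM hxM)) (H.inv_mem hgH)) hRU
    have h1 : Cg (posBut a) R (X a (torusChar chevE6 c a : K)) := by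
      have e1 : Cg (posBut a) (torusHom K chevE6 c * x * (torusHom K chevE6 c)⁻¹)
          (X a (torusChar chevE6 c a : K)) := by
        have := torus_gen c (fun s hs => (mem_posR.1 (List.mem_filter.1 hs).1).2) hx
        rw [show torusHom K chevE6 c * (x * (X a 1)⁻¹) * (torusHom K chevE6 c)⁻¹ =
          torusHom K chevE6 c * x * (torusHom K chevE6 c)⁻¹ *
            (torusHom K chevE6 c * X a 1 * (torusHom K chevE6 c)⁻¹)⁻¹ by group, conj_xg c (mem_posR.1 hap).2,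
          mul_one] at this
        exact this
      rw [hR, show u * torusHom K chevE6 c * x * (u * torusHom K chevE6 c)⁻¹ =
        u * (torusHom K chevE6 c * x * (torusHom K chevE6 c)⁻¹) * u⁻¹ by group]
      exact (e1.conj hS (U_le_pos φ hu)).trans (conj_gen hS (fun y hy => hy) hap hc _ (U_le_pos φ hu))
    have h2 := h1.theta φ
    rw [(mem_fixT φ).1 hRfix, theta_xg] at h2
    have h3 := h2.symm.trans h1
    rw [Cg, (E6.good : Good chevE6).xg_inv, (E6.good : Good chevE6).xg_add] at h3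
    exact eq_of_sub_eq_zero (by rw [sub_eq_add_neg]; exact sep_one hS hap haS h3)
  have hlong : ∀ j : Fin 4, j = 0 ∨ j = 1 →
      X (longRoot j) (1 : K) ∈ MF φ ∧ X (longRoot j) (1 : K) ∈ (tw2E6 φ).data.U := fun j hj =>
    ⟨⟨RootBN.Twist.X'_le_Gt _ (long_mem φ hj (map_one φ)), by
        show theta φ _ = _
        rw [theta_xg, map_one]; rfl⟩, simp_le_U φ j (long_mem φ hj (map_one φ))⟩
  have hshort : ∀ j : Fin 4, j = 2 ∨ j = 3 → ∀ a b, (a = fstRoot j ∧ b = sndRoot j ∨ a = sndRoot j ∧ b = fstRoot j) →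
      eS φ j 1 ∈ MF φ ∧ eS φ j 1 ∈ (tw2E6 φ).data.U ∧ Cg (posBut a) (eS φ j 1) (X a (1 : K)) := by
    intro j hj a b hab
    have hm := eS_mem φ h.inv hj (1 : K)
    refine ⟨⟨RootBN.Twist.X'_le_Gt _ hm, eS_fix (map_one φ)⟩, simp_le_U φ j hm, ?_⟩
    have hchk : ∀ j : Fin 4, j = 2 ∨ j = 3 → fstRoot j ∈ [56, 46, 42, 39, 37, 36] ∧
        sndRoot j ∈ [56, 46, 42, 39, 37, 36] ∧ fstRoot j ∈ posBut (sndRoot j) ∧ sndRoot j ∈ posBut (fstRoot j) := by
      decide +kernel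
    obtain ⟨m1, m2, m3, m4⟩ := hchk j hj
    rw [eS_eq, map_one]
    rcases hab with ⟨rfl, rfl⟩ | ⟨rfl, rfl⟩
    · have := (Cg.of_mem (xg_mem_gen (F := K) m4 1)).mul_left (simple_sep _ m1).1
        (xg_mem_gen (simple_sep _ m1).2.1 (1 : K))
      rwa [mul_one] at this
    · have := (Cg.of_mem (xg_mem_gen (F := K) m3 1)).mul_right (c := X (sndRoot j) (1 : K))
      rwa [one_mul] at this
  obtain ⟨-, -, -, -, s0, s1, s2, s3, s4, s5⟩ := simple_facts
  have ht' : torusHom K chevE6 c ∈ fixT φ := by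
    refine torus_fix φ c fun i hi => ?_
    rw [hk] at hi
    interval_cases i
    · obtain ⟨a1, a2, a3⟩ := hshort 3 (Or.inr rfl) 56 36 (Or.inl ⟨rfl, rfl⟩)
      rw [s0]; exact key 56 (by simp) _ a1 a2 a3
    · rw [s1]; exact key 46 (by simp) _ (hlong 0 (Or.inl rfl)).1 (hlong 0 (Or.inl rfl)).2 (Cg.refl _)
    · obtain ⟨a1, a2, a3⟩ := hshort 2 (Or.inl rfl) 42 37 (Or.inl ⟨rfl, rfl⟩)
      rw [s2]; exact key 42 (by simp) _ a1 a2 a3
    · rw [s3]; exact key 39 (by simp) _ (hlong 1 (Or.inr rfl)).1 (hlong 1 (Or.inr rfl)).2 (Cg.refl _)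
    · obtain ⟨a1, a2, a3⟩ := hshort 2 (Or.inl rfl) 37 42 (Or.inr ⟨rfl, rfl⟩)
      rw [s4]; exact key 37 (by simp) _ a1 a2 a3
    · obtain ⟨a1, a2, a3⟩ := hshort 3 (Or.inr rfl) 36 56 (Or.inr ⟨rfl, rfl⟩)
      rw [s5]; exact key 36 (by simp) _ a1 a2 a3
  have htH : torusHom K chevE6 c ∈ H := hM ⟨ht.2, ht'⟩
  exact (fixT φ).mul_mem (unipotent_fixed φ h hM hH hne p _ ((H.mul_mem_cancel_right htH).1 hgH) hu) ht'

/-- The first parameter of an element of the subgroup in a cell is fixed. -/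
theorem first_fixed {c : CellCert} (hc : c ∈ cellCerts) {j : Fin 4} {l : List (Fin 4)}
    (hw : topWord.drop c.pos = j :: l) (hj : j = 2 ∨ j = 3)
    (hab : c.fstA = fstRoot j ∧ c.sndB = sndRoot j ∨ c.fstA = sndRoot j ∧ c.sndB = fstRoot j)
    {y v c' : GL chevE6.Idx K} {t' : GL chevE6.Idx K} {s₀ : K} (hy : y = eS φ j s₀)
    (hv : v ∈ (tw2E6 φ).data.Urad j) (ht : t' ∈ (tw2E6 φ).data.H) (hc' : c' ∈ (tw2E6 φ).data.B)
    (hg : y * v * t' * (tw2E6 φ).data.nw (j :: l) * c' ∈ H) : φ s₀ = s₀ := by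
  obtain ⟨hQ, hS, hS', hτ, ha, hb, hγ, hγS, hsS, hγa, hτQ, himg⟩ := roots_ok c hc
  obtain ⟨⟨k, hk, hterm⟩, hbγ, hγs, hLγ, hneg, hpos'⟩ := comm_ok c hc
  obtain ⟨hwimg, habove, hrho, hrep⟩ := word_ok c hc
  rw [hw] at hwimg habove
  have hD : Good chevE6 := E6.good
  obtain ⟨d, hτX, hd⟩ : ∃ d : K, X c.tau d ∈ (tw2E6 φ).X' (orbE6.orbF 48 c.tau) ∧ d ≠ 0 := by
    obtain ⟨⟨z, hz⟩, hz1⟩ := Subgroup.ne_bot_iff_exists_ne_one.1 (RootBN.Twist.X'_ne_bot' (hT φ) (orbE6.orbF 48 c.tau))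
    obtain ⟨t, u, e⟩ := exists_pair φ hz.1
    rw [hrep, hrho, hD.xg_add] at e
    refine ⟨t + u, e ▸ hz, fun e0 => hz1 (Subtype.ext ?_)⟩
    rw [e0, hD.xg_zero] at e
    exact e
  set z := X c.tau d
  have hzM : z ∈ MF φ := long_fix φ (by rw [hrep, hrho]) hτX
  obtain ⟨e1, he1, hcz⟩ := B_conj_root φ hQ hτ hτQ hc' hd
  obtain ⟨q1, hq1, hczq⟩ : ∃ q1 ∈ gen chevE6 K c.above, c' * z * c'⁻¹ = X c.tau e1 * q1 := by
    refine ⟨(X c.tau e1)⁻¹ * (c' * z * c'⁻¹ * (X c.tau e1)⁻¹) * (X c.tau e1)⁻¹⁻¹,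
      U_normalises hQ (Subgroup.inv_mem _ (xg_mem_gen hτ e1)) _ hcz, by group⟩
  set N := (tw2E6 φ).data.nw (j :: l)
  obtain ⟨ε, hε, hN⟩ := nw_conj φ (j :: l) (mem_posR.1 hτ).2
  rw [hwimg] at hN
  obtain ⟨ct, rfl⟩ := exists_torus φ ht
  set T := torusHom K chevE6 ct
  set g := y * v * T * N * c'
  set e2 := (torusChar chevE6 ct c.img : K) * (ε * e1)
  set q2 := T * (N * q1 * N⁻¹) * T⁻¹
  have hq2 : q2 ∈ gen chevE6 K c.modS := by
    refine torus_gen ct (fun s hs => (hS.1 s hs).1) ?_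
    refine (show gen chevE6 K c.above ≤ (gen chevE6 K c.modS).comap (MulAut.conj N).toMonoidHom from
      gen_le fun r hr t => ?_) hq1
    obtain ⟨ε', -, hN'⟩ := nw_conj φ (j :: l) (hQ.1 r hr).1
    show N * X r t * N⁻¹ ∈ gen chevE6 K c.modS
    rw [hN' t]
    exact xg_mem_gen (habove r hr) _
  have hgz : g * z * g⁻¹ = y * v * (X c.img e2 * q2) * (y * v)⁻¹ := by
    have e3 : T * (N * X c.tau e1 * N⁻¹) * T⁻¹ = X c.img e2 := by rw [hN, conj_xg ct himg]
    calc g * z * g⁻¹ = y * v * (T * (N * (c' * z * c'⁻¹) * N⁻¹) * T⁻¹) * (y * v)⁻¹ := by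
          simp only [g]; group
      _ = y * v * ((T * (N * X c.tau e1 * N⁻¹) * T⁻¹) * q2) * (y * v)⁻¹ := by
          rw [hczq]; simp only [q2]; group
      _ = _ := by rw [e3]
  have he2 : e2 ≠ 0 := by
    refine mul_ne_zero (Units.ne_zero _) (mul_ne_zero ?_ he1)
    rcases hε with rfl | rfl <;> simp
  have hgzH : g * z * g⁻¹ ∈ H := H.mul_mem (H.mul_mem hg (hM hzM)) (H.inv_mem hg)
  have hyv : y * v ∈ (tw2E6 φ).data.U :=
    Subgroup.mul_mem _ (simp_le_U φ j (hy ▸ eS_mem φ h.inv hj s₀)) (Data.Urad_le_U j hv)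
  -- the element of `U`
  obtain ⟨e, he, q, hq, R, hRH, hR⟩ : ∃ e : K, e ≠ 0 ∧ ∃ q ∈ gen chevE6 K c.modS, ∃ R ∈ H,
      R = y * v * (X c.gam e * q) * (y * v)⁻¹ := by
    cases hn' : c.neg
    · exact ⟨e2, he2, q2, hq2, g * z * g⁻¹, hgzH, by rw [hpos' hn']; exact hgz⟩
    · obtain ⟨h71, habv, hi1, hi2, k', hk', hterm'⟩ := hneg hn'
      have hq2' : q2 = 1 := by
        rw [habv] at hq1
        rw [gen_nil, Subgroup.mem_bot] at hq1
        simp [q2, hq1]
      rw [hq2', mul_one] at hgz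
      have hzc : Commute z (y * v) := by
        have := conj_gen (S := c.above) hQ (L := posR) (fun x hx => hx) hτ (fun r hr => hτQ r hr) d
          (U_le_pos φ hyv)
        rw [Cg, habv, gen_nil, Subgroup.mem_bot, mul_inv_eq_one, mul_inv_eq_iff_eq_mul] at this
        exact this.symm
      refine ⟨(k' : K) * (d * e2), mul_ne_zero ?_ (mul_ne_zero hd he2), 1, Subgroup.one_mem _,
        z * (g * z * g⁻¹) * z⁻¹ * (g * z * g⁻¹)⁻¹, H.mul_mem (H.mul_mem (H.mul_mem (hM hzM) hgzH)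
          (H.inv_mem (hM hzM))) (H.inv_mem hgzH), ?_⟩
      · simp only [List.mem_cons, List.not_mem_nil, or_false] at hk'
        rcases hk' with rfl | rfl <;> simp
      · rw [hgz, mul_one]
        have hc2 := comm_word (K := K) (by norm_num : (71 : ℕ) < 72) himg hi1 hi2 hterm' d e2
        calc z * (y * v * X c.img e2 * (y * v)⁻¹) * z⁻¹ * (y * v * X c.img e2 * (y * v)⁻¹)⁻¹
            = (z * (y * v)) * X c.img e2 * (z * (y * v))⁻¹ * ((y * v) * (X c.img e2)⁻¹ * (y * v)⁻¹) := by group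
          _ = (y * v) * (z * X c.img e2 * z⁻¹ * (X c.img e2)⁻¹) * (y * v)⁻¹ := by rw [hzc.eq]; group
          _ = _ := by rw [show z = X 71 d by simp [z, h71], hc2]
  have hR' : R ∈ gen chevE6 K posR := by
    rw [hR]
    exact Subgroup.mul_mem _ (Subgroup.mul_mem _ (U_le_pos φ hyv) (Subgroup.mul_mem _ (xg_mem_gen hγ e)
      (gen_mono (fun s hs => mem_posR.2 ⟨(hS.1 s hs).2, (hS.1 s hs).1⟩) hq))) (Subgroup.inv_mem _ (U_le_pos φ hyv))
  have hRfix : theta φ R = R := by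
    refine unipotent_fixed φ h hM hH hne p R hRH ?_
    rw [← RootBN.Twist.inf_Gt_U (hT φ)]
    refine ⟨?_, hH hRH⟩
    refine (show gen chevE6 K posR ≤ (BNSetup.data E6.good K).U from gen_le fun r hr t => ?_) hR'
    refine Data.X_le_U (D := BNSetup.data E6.good K) (r := (⟨r, hn.symm ▸ (mem_posR.1 hr).2⟩ : Fin chevE6.nroots))
      (show chevE6.nroots / 2 ≤ r by rw [hn]; exact (mem_posR.1 hr).1) (hD.xg_mem_rootSubgroup r t)
  have hk' : k = 1 ∨ k = -1 := by simpa using hk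
  have hva := Urad_le φ hj (a := c.fstA) (by rcases hab with ⟨e, -⟩ | ⟨e, -⟩ <;> simp [e]) hv
  rcases hab with ⟨e1', e2'⟩ | ⟨e1', e2'⟩
  · have hy' : y = X c.fstA s₀ * X c.sndB (φ s₀) := by rw [hy, eS_eq, e1', e2']
    rw [hy'] at hR
    exact fixed_param φ hS hS' ha hb hγ hγS hsS hγa hk' hterm hbγ hγs (fun r hr => (List.mem_filter.1 hr).1)
      hLγ hva hq he hR hRfix
  · have hy' : y = X c.fstA (φ s₀) * X c.sndB (φ (φ s₀)) := by
      rw [hy, eS_eq, e1', e2', h.inv]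
      have hchk : ∀ j : Fin 4, chevE6.commTerms (fstRoot j) (sndRoot j) = [] ∧ fstRoot j < 72 ∧ sndRoot j < 72 ∧
          sndRoot j ≠ chevE6.neg (fstRoot j) := by decide +kernel
      obtain ⟨h1, h2, h3, h4⟩ := hchk j
      exact (xg_commute (K := K) h2 h3 h1 h4 _ _).eq
    rw [hy'] at hR
    have := fixed_param φ hS hS' ha hb hγ hγS hsS hγa hk' hterm hbγ hγs (fun r hr => (List.mem_filter.1 hr).1)
      hLγ hva hq he hR hRfix
    exact φ.injective this

/-- The cells along the word. -/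
theorem cell_fixed : ∀ n k, k + n = 24 → ∀ g ∈ (tw2E6 φ).data.cell ((tw2E6 φ).data.wl (topWord.drop k)),
    g ∈ H → g ∈ fixT φ := by
  intro n
  induction n with
  | zero =>
    intro k hk g hg hgH
    rw [List.drop_eq_nil_of_le (by rw [show topWord.length = 24 from rfl]; omega), Data.wl_nil,
      Data.mem_cell_one (hax φ)] at hg
    exact borel_fixed φ h hM hH hne p g hgH hg
  | succ n ih =>
    intro k hk g hg hgH
    have hlt : k < topWord.length := by rw [show topWord.length = 24 from rfl]; omega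
    rw [List.drop_eq_getElem_cons hlt] at hg
    set j := topWord[k] with hjdef
    set l := topWord.drop (k + 1) with hldef
    have ax := hax φ
    obtain ⟨b, hb, c', hc', rfl⟩ := (Data.mem_cell_iff ax (Data.nw_mem_N _) (Data.acts_nw ax _)).1 hg
    obtain ⟨y, hy, v, hv, t', ht, rfl⟩ := Data.B_decomp ax j hb
    have hyfix : y ∈ MF φ := by
      rcases letters_check k (by omega) j l (List.drop_eq_getElem_cons hlt) with hj | hj | ⟨hj, c, hc, rfl, hab⟩
      · obtain ⟨s, hs, e⟩ := exists_long φ (Or.inl hj) hy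
        exact ⟨RootBN.Twist.X'_le_Gt _ hy, by rw [e]; show theta φ _ = _; rw [theta_xg, hs]; rfl⟩
      · obtain ⟨s, hs, e⟩ := exists_long φ (Or.inr hj) hy
        exact ⟨RootBN.Twist.X'_le_Gt _ hy, by rw [e]; show theta φ _ = _; rw [theta_xg, hs]; rfl⟩
      · obtain ⟨s₀, e⟩ := exists_eS φ hj hy
        have hs₀ := first_fixed φ h hM hH hne p hc (List.drop_eq_getElem_cons hlt) hj hab e hv ht hc' hgH
        exact ⟨RootBN.Twist.X'_le_Gt _ hy, by rw [e]; exact eS_fix hs₀⟩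
    set g' := ((tw2E6 φ).data.nn j)⁻¹ * (v * t') * (tw2E6 φ).data.nn j * (tw2E6 φ).data.nw l * c'
    have hg' : g' ∈ (tw2E6 φ).data.cell ((tw2E6 φ).data.wl l) :=
      Data.mul_mem_cell (Data.mem_cell_of (Data.nw_mem_N l) (Data.acts_nw ax l)) (Data.nn_conj_rad ax hv ht).2 hc'
    have hm : y * (tw2E6 φ).data.nn j ∈ MF φ := Subgroup.mul_mem _ hyfix (nn_mem_MF φ j)
    have e : y * v * t' * (tw2E6 φ).data.nw (j :: l) * c' = y * (tw2E6 φ).data.nn j * g' := by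
      simp only [g', Data.nw_cons]; group
    rw [e] at hgH ⊢
    exact (fixT φ).mul_mem hm.2 (ih (k + 1) (by omega) g' hg' ((H.mul_mem_cancel_left (hM hm)).1 hgH))

end Cfsg.Agent.E6Sub
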