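/-
²E₆(q): the fixed elements form a maximal subgroup.
-/
import Cfsg.Agent.Lib.Chev.E6Subfield.Cells

set_option autoImplicit false

namespace Cfsg.Agent.E6Sub

open Cfsg.Lie Cfsg.Agent.Chev
open Cfsg.Agent.RootBN (Data)
open Cfsg.Agent.Chev.BNSetup (tw2E6 orbE6)

theorem top_simple : ∀ j : Fin 4, topWord.foldr (orbE6.reflF 48 4) (orbE6.simpF 48 4 j) =
    orbE6.orbF 48 (chevE6.neg (orbE6.repF 48 (orbE6.simpF 48 4 j))) := by decide +kernel

variable {K : Type*} [Field K] (φ : K ≃+* K)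

/-- A word whose cell cannot be raised gives the longest element. -/
theorem wl_eq_top {l : List (Fin 4)}
    (hl : ∀ i, ¬ (tw2E6 φ).data.Pos (((tw2E6 φ).data.wl l)⁻¹ ((tw2E6 φ).data.simp i))) :
    (tw2E6 φ).data.wl l = (tw2E6 φ).data.wl topWord := by
  have ax := hax φ
  have hsimp : ∀ i, (tw2E6 φ).data.wl topWord ((tw2E6 φ).data.simp i) =
      (tw2E6 φ).data.opp ((tw2E6 φ).data.simp i) := fun i => by
    rw [wl_apply, simp_eq, top_simple]
    rfl
  by_contra hne
  have h1 : (tw2E6 φ).data.wl (topWord.reverse ++ l) ≠ 1 := fun e => hne (by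
    rw [Data.wl_append, Data.wl_reverse ax, inv_mul_eq_one] at e
    exact e.symm)
  obtain ⟨i, hi⟩ := Data.exists_descent ax h1
  refine hi ?_
  rw [Data.wl_append, Data.wl_reverse ax, mul_inv_rev, inv_inv, Equiv.Perm.mul_apply, hsimp,
    ← Data.wl_reverse ax, Data.wl_opp ax, Data.wl_reverse ax, ax.pos_opp]
  exact hl i

variable [Fintype K] {q : ℕ} (h : Hyp φ q) {H : Subgroup (GL chevE6.Idx K)} (hM : MF φ ≤ H)
  (hH : H ≤ (tw2E6 φ).Gt) (hne : H ≠ (tw2E6 φ).Gt) (p : ℕ) [Fact p.Prime] [CharP K p]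
include h hM hH hne p

/-- A proper subgroup containing the fixed elements consists of fixed elements. -/
theorem le_fixT : ∀ x ∈ H, x ∈ fixT φ := by
  suffices key : ∀ n, ∀ l : List (Fin 4), 48 - (tw2E6 φ).data.inv ((tw2E6 φ).data.wl l) = n →
      ∀ x ∈ H, x ∈ (tw2E6 φ).data.cell ((tw2E6 φ).data.wl l) → x ∈ fixT φ by
    intro x hx
    obtain ⟨l, hl⟩ := Data.exists_cell (hax φ) (g := x) (hH hx)
    exact key _ l rfl x hx hl
  intro n
  induction n using Nat.strong_induction_on with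
  | _ n ih =>
    intro l hn x hxH hx
    by_cases hup : ∃ i, (tw2E6 φ).data.Pos (((tw2E6 φ).data.wl l)⁻¹ ((tw2E6 φ).data.simp i))
    · obtain ⟨i, hi⟩ := hup
      have hle : (tw2E6 φ).data.inv ((tw2E6 φ).data.wl (i :: l)) ≤ 48 := by
        refine (Set.ncard_le_card _).trans ?_
        simp
      have hinv := Data.inv_refl_mul (hax φ) l hi
      rw [← Data.wl_cons] at hinv
      have hm := nn_mem_MF φ i
      have h1 := ih _ (by omega) (i :: l) rfl ((tw2E6 φ).data.nn i * x) (H.mul_mem (hM hm) hxH) (by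
        rw [Data.wl_cons]; exact Data.nn_mul_cell_pos (hax φ) hi hx)
      exact ((fixT φ).mul_mem_cancel_left hm.2).1 h1
    · push Not at hup
      rw [wl_eq_top φ hup, show topWord = topWord.drop 0 from rfl] at hx
      exact cell_fixed φ h hM hH hne p 24 0 rfl x hx hxH

omit hM hH hne p [Fact p.Prime] [CharP K p] in
theorem MF_ne_Gt : MF φ ≠ (tw2E6 φ).Gt := by
  intro e
  obtain ⟨t, ht⟩ := exists_nonfixed h
  have h1 : eS φ 2 t ∈ MF φ := e ▸ RootBN.Twist.X'_le_Gt _ (eS_mem φ h.inv (Or.inl rfl) t)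
  have h2 : theta φ (eS φ 2 t) = eS φ 2 t := h1.2
  rw [eS_eq, map_mul, theta_xg, theta_xg, h.inv] at h2
  obtain ⟨hS, hap, haS, -⟩ := simple_sep 42 (by simp)
  have h37 : (37 : ℕ) ∈ posBut 42 := by decide +kernel
  have key : ∀ a b : K, Cg (posBut 42) (Chev.xg chevE6 K 42 a * Chev.xg chevE6 K 37 b) (Chev.xg chevE6 K 42 a) :=
    fun a b => by
      have := (Cg.of_mem (Invol.xg_mem_gen (F := K) h37 b)).mul_left hS (Invol.xg_mem_gen hap a)
      rwa [mul_one] at this
  have h3 := (key (φ t) t).symm.trans (show Cg (posBut 42) _ _ from by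
    have h2' : Chev.xg chevE6 K 42 (φ t) * Chev.xg chevE6 K 37 t =
        Chev.xg chevE6 K 42 t * Chev.xg chevE6 K 37 (φ t) := h2
    rw [h2']; exact key t (φ t))
  rw [Cg, (E6.good : Good chevE6).xg_inv, (E6.good : Good chevE6).xg_add] at h3
  exact ht (eq_of_sub_eq_zero (by rw [sub_eq_add_neg]; exact sep_one hS hap haS h3))

omit hM hH hne in
/-- The fixed elements form a maximal subgroup. -/
theorem maximal (H : Subgroup (GL chevE6.Idx K)) (hM : MF φ ≤ H) (hH : H ≤ (tw2E6 φ).Gt) :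
    H = MF φ ∨ H = (tw2E6 φ).Gt :=
  or_iff_not_imp_right.2 fun hne => le_antisymm (fun x hx => ⟨hH hx, le_fixT φ h hM hH hne p x hx⟩) hM

end Cfsg.Agent.E6Sub
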